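import Groth.Agent.Lib.AmpSpread10.SectStage
import Groth.Agent.Lib.Ample.Frame
import Groth.Agent.Lib.Ample.Criterion

/-!
# Invertible modules on a limit come from a stage
-/

set_option autoImplicit false
set_option linter.all false
set_option backward.isDefEq.respectTransparency false
set_option maxHeartbeats 2000000

universe u

open CategoryTheory CategoryTheory.Limits AlgebraicGeometry Opposite TopologicalSpace
open GrothLib.Ample
open GrothLib.InvExt (mres IsGen)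

noncomputable section

namespace GrothLib.AmpSpread10

variable {I : Type u} [SmallCategory I] [IsCofiltered I] {D : I ⥤ Scheme.{u}} {c : Cone D} (hc : IsLimit c)
  [∀ (i j : I) (φ : i ⟶ j), IsAffineHom (D.map φ)] [∀ i, QuasiSeparatedSpace (D.obj i)]

include hc in
/-- A function on a compact open of the limit comes from a stage. -/
theorem exists_app_π_eq {i : I} {U : (D.obj i).Opens} (hU : IsCompact (U : Set (D.obj i)))
    (s : Γ(c.pt, c.π.app i ⁻¹ᵁ U)) :
    ∃ (k : I) (φ : k ⟶ i) (e : c.π.app i ⁻¹ᵁ U ≤ c.π.app k ⁻¹ᵁ (D.map φ ⁻¹ᵁ U))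
      (t : Γ(D.obj k, D.map φ ⁻¹ᵁ U)), (c.π.app k).appLE _ _ e t = s := by
  haveI (j : Over i) : CompactSpace ((opensDiagram D i U).obj j) :=
    isCompact_iff_compactSpace.mp (QuasiCompact.isCompact_preimage (f := D.map j.hom) _ U.2 hU)
  haveI (j : Over i) : QuasiSeparatedSpace ((opensDiagram D i U).obj j) :=
    (isQuasiSeparated_iff_quasiSeparatedSpace _ (D.map j.hom ⁻¹ᵁ U).2).mp (.of_quasiSeparatedSpace _)
  haveI : ∀ (j k : Over i) (φ : j ⟶ k), IsAffineHom ((opensDiagram D i U).map φ) := fun j k φ => inferInstance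
  have H : (c.π.app i ⁻¹ᵁ U).ι ''ᵁ ⊤ = c.π.app i ⁻¹ᵁ U := by simp
  obtain ⟨j, t, ht⟩ := exists_appTop_π_eq_of_isLimit (opensDiagram D i U) _
    (isLimitOpensCone D c hc i U) (c.pt.presheaf.map (eqToHom H).op s)
  have e : c.π.app i ⁻¹ᵁ U ≤ c.π.app j.left ⁻¹ᵁ (D.map j.hom ⁻¹ᵁ U) := by
    rw [← Scheme.Hom.comp_preimage, c.w]
  refine ⟨j.left, j.hom, e,
    (D.obj j.left).presheaf.map (homOfLE (show D.map j.hom ⁻¹ᵁ U ≤
      (D.map j.hom ⁻¹ᵁ U).ι ''ᵁ ⊤ by simp)).op t, ?_⟩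
  have key : ((c.π.app j.left).resLE (D.map j.hom ⁻¹ᵁ U) (c.π.app i ⁻¹ᵁ U) e).appTop ≫
      c.pt.presheaf.map (homOfLE H.ge).op =
      (D.obj j.left).presheaf.map (homOfLE (show D.map j.hom ⁻¹ᵁ U ≤
        (D.map j.hom ⁻¹ᵁ U).ι ''ᵁ ⊤ by simp)).op ≫ (c.π.app j.left).appLE _ _ e := by
    simp [Scheme.Hom.app_eq_appLE, Scheme.Hom.resLE_appLE]
  refine (congr($key t)).symm.trans ((congrArg (c.pt.presheaf.map (homOfLE H.ge).op) ht.symm).trans ?_)
  show (c.pt.presheaf.map (eqToHom H).op ≫ c.pt.presheaf.map (homOfLE H.ge).op) s = s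
  rw [← Functor.map_comp]
  show c.pt.presheaf.map (𝟙 _) s = s
  simp

include hc in
/-- Finitely many functions on compact opens of the limit come from a common stage. -/
theorem exists_common_app {i : I} {τ : Type*} [Finite τ] (U : τ → (D.obj i).Opens)
    (hU : ∀ x, IsCompact (U x : Set (D.obj i))) (b : ∀ x, Γ(c.pt, c.π.app i ⁻¹ᵁ U x)) :
    ∃ (j : I) (φ : j ⟶ i), ∀ x, ∃ (e : c.π.app i ⁻¹ᵁ U x ≤ c.π.app j ⁻¹ᵁ (D.map φ ⁻¹ᵁ U x))
      (a : Γ(D.obj j, D.map φ ⁻¹ᵁ U x)), (c.π.app j).appLE _ _ e a = b x := by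
  classical
  haveI := Fintype.ofFinite τ
  choose k ψ e a ha using fun x => exists_app_π_eq hc (hU x) (b x)
  obtain ⟨m, hm⟩ := IsCofiltered.inf_objs_exists
    (insert (Over.mk (𝟙 i)) (Finset.univ.image fun x => Over.mk (ψ x)))
  refine ⟨m.left, m.hom, fun x => ?_⟩
  obtain ⟨g⟩ := hm (Finset.mem_insert_of_mem (Finset.mem_image_of_mem (fun x => Over.mk (ψ x)) (Finset.mem_univ x)))
  have e1 : D.map m.hom ⁻¹ᵁ U x ≤ D.map g.left ⁻¹ᵁ (D.map (ψ x) ⁻¹ᵁ U x) := by
    rw [← Scheme.Hom.comp_preimage, ← D.map_comp, show g.left ≫ ψ x = m.hom from Over.w g]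
  refine ⟨by rw [← Scheme.Hom.comp_preimage, c.w], (D.map g.left).appLE _ _ e1 (a x), ?_⟩
  refine Eq.trans ?_ (ha x)
  rw [← ConcreteCategory.comp_apply, Scheme.Hom.appLE_comp_appLE]
  simp only [c.w]
  rfl

include hc in
/-- **An invertible module on the limit comes from an invertible module at a stage.** -/
theorem exists_stage_invertible [∀ i, CompactSpace (D.obj i)] {L : c.pt.Modules} (hL : PicF.IsInvertible L) :
    ∃ (i : I) (L₀ : (D.obj i).Modules), PicF.IsInvertible L₀ ∧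
      Nonempty ((Scheme.Modules.pullback (c.π.app i)).obj L₀ ≅ L) := by
  classical
  -- generators on affine opens coming from stages
  have hloc : ∀ z : c.pt, ∃ (V : c.pt.Opens) (e : Γ(L, V)) (i : I) (V' : (D.obj i).Opens),
      z ∈ V ∧ IsGen L V e ∧ IsAffineOpen V' ∧ c.π.app i ⁻¹ᵁ V' = V := fun z => by
    obtain ⟨V₀, e, hzV₀, he⟩ := InvExt.exists_gen_nhd hL z
    obtain ⟨V, hV, hzV, hle⟩ := exists_isAffineOpen_mem_and_subset hzV₀
    obtain ⟨i, V', hV', hVV'⟩ := exists_isAffineOpen_preimage_eq D c hc V hV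
    exact ⟨V, mres L hle e, i, V', hzV, he.restrict hle, hV', hVV'⟩
  choose V e iz V' hzV he hV' hVV' using hloc
  haveI : CompactSpace c.pt := Scheme.compactSpace_of_isLimit D c hc
  obtain ⟨T, hT⟩ := (isCompact_univ : IsCompact (Set.univ : Set c.pt)).elim_finite_subcover
    (fun z => (V z : Set c.pt)) (fun z => (V z).2) fun z _ => Set.mem_iUnion.2 ⟨z, hzV z⟩
  obtain ⟨m, hm⟩ := IsCofiltered.inf_objs_exists (T.image iz)
  let g : ∀ k : T, m ⟶ iz k.1 := fun k => (hm (Finset.mem_image_of_mem iz k.2)).some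
  let W₁ : T → (D.obj m).Opens := fun k => D.map (g k) ⁻¹ᵁ V' k.1
  have hW₁ : ∀ k : T, c.π.app m ⁻¹ᵁ W₁ k = V k.1 := fun k => by
    show c.π.app m ⁻¹ᵁ (D.map (g k) ⁻¹ᵁ V' k.1) = _
    rw [← Scheme.Hom.comp_preimage, c.w, hVV']
  obtain ⟨i, f, hf⟩ := exists_map_eq_top D c hc (⨆ k, W₁ k) (by
    refine eq_top_iff.2 fun z _ => ?_
    obtain ⟨w, hw, hzw⟩ := Set.mem_iUnion₂.1 (hT (Set.mem_univ z))
    have hz : z ∈ c.π.app m ⁻¹ᵁ W₁ ⟨w, hw⟩ := by rw [hW₁]; exact hzw
    exact Opens.mem_iSup.2 ⟨⟨w, hw⟩, hz⟩)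
  let W : T → (D.obj i).Opens := fun k => D.map f ⁻¹ᵁ W₁ k
  have hWc : ∀ k, IsCompact (W k : Set (D.obj i)) := fun k =>
    (((hV' k.1).preimage (D.map (g k))).preimage (D.map f)).isCompact
  have hWcov : ⨆ k, W k = ⊤ := by rw [← hf, Scheme.Hom.preimage_iSup]
  have hWV : ∀ k, c.π.app i ⁻¹ᵁ W k ≤ V k.1 := fun k => by
    show c.π.app i ⁻¹ᵁ (D.map f ⁻¹ᵁ W₁ k) ≤ _
    rw [← Scheme.Hom.comp_preimage, c.w, hW₁]
  -- generators and transition functions in the limit
  let π := c.π.app i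
  let ε : ∀ k, Γ(L, π ⁻¹ᵁ W k) := fun k => mres L (hWV k) (e k.1)
  have hε : ∀ k, IsGen L (π ⁻¹ᵁ W k) (ε k) := fun k => (he k.1).restrict (hWV k)
  have hle₁ : ∀ k l, π ⁻¹ᵁ (W k ⊓ W l) ≤ π ⁻¹ᵁ W k := fun k l => π.preimage_mono inf_le_left
  have hle₂ : ∀ k l, π ⁻¹ᵁ (W k ⊓ W l) ≤ π ⁻¹ᵁ W l := fun k l => π.preimage_mono inf_le_right
  choose γ hγ using fun k l : T => (hε k).exists_smul_eq (hle₁ k l) (mres L (hle₂ k l) (ε l))
  have hres : ∀ (k l : T) (U : c.pt.Opens) (h : U ≤ π ⁻¹ᵁ (W k ⊓ W l)),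
      mres L (h.trans (hle₂ k l)) (ε l) = res h (γ k l) • mres L (h.trans (hle₁ k l)) (ε k) := fun k l U h => by
    have h0 : mres L h (mres L (hle₂ k l) (ε l)) = res h (γ k l) • mres L h (mres L (hle₁ k l) (ε k)) :=
      (congrArg (mres L h) (hγ k l)).trans (mres_smul' L h _ _)
    exact (InvExt.mres_mres L _ _ _).symm.trans (h0.trans (congrArg (_ • ·) (InvExt.mres_mres L _ _ _)))
  -- transition functions at a stage
  obtain ⟨j, φ, hj⟩ := exists_common_app hc (fun q : T × T => W q.1 ⊓ W q.2)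
    (fun q => QuasiSeparatedSpace.inter_isCompact _ _ (Opens.isOpen _) (hWc q.1) (Opens.isOpen _) (hWc q.2))
    (fun q => γ q.1 q.2)
  choose ej a ha using hj
  let O : T ⊕ (T × T × T) → (D.obj j).Opens := fun q => match q with
    | .inl k => D.map φ ⁻¹ᵁ W k
    | .inr q => D.map φ ⁻¹ᵁ (W q.1 ⊓ W q.2.1 ⊓ W q.2.2)
  have hO : ∀ q, IsCompact (O q : Set (D.obj j)) := fun q => by
    rcases q with k | q
    · exact QuasiCompact.isCompact_preimage (f := D.map φ) _ (W k).2 (hWc k)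
    · exact QuasiCompact.isCompact_preimage (f := D.map φ) _ (W q.1 ⊓ W q.2.1 ⊓ W q.2.2).2
        (QuasiSeparatedSpace.inter_isCompact _ _ (Opens.isOpen _)
          (QuasiSeparatedSpace.inter_isCompact _ _ (Opens.isOpen _) (hWc _) (Opens.isOpen _) (hWc _))
          (Opens.isOpen _) (hWc _))
  let sv : ∀ q, Γ(D.obj j, O q) := fun q => match q with
    | .inl k => res ((D.map φ).preimage_mono (le_inf le_rfl le_rfl)) (a (k, k))
    | .inr q => res ((D.map φ).preimage_mono (le_inf (inf_le_left.trans inf_le_left) inf_le_right)) (a (q.1, q.2.2))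
  let tv : ∀ q, Γ(D.obj j, O q) := fun q => match q with
    | .inl k => 1
    | .inr q => res ((D.map φ).preimage_mono inf_le_left) (a (q.1, q.2.1)) *
        res ((D.map φ).preimage_mono (le_inf (inf_le_left.trans inf_le_right) inf_le_right)) (a (q.2.1, q.2.2))
  have hval : ∀ (k l : T) (O' : (D.obj j).Opens) (h : O' ≤ D.map φ ⁻¹ᵁ (W k ⊓ W l))
      (h' : c.π.app j ⁻¹ᵁ O' ≤ π ⁻¹ᵁ (W k ⊓ W l)),
      (c.π.app j).appLE O' (c.π.app j ⁻¹ᵁ O') le_rfl (res h (a (k, l))) = res h' (γ k l) := fun k l O' h h' => by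
    refine (appLE_res _ _ _ _).trans ((res_appLE _ h' (ej (k, l)) _).symm.trans ?_)
    exact congrArg (res h') (ha (k, l))
  have hpre : ∀ {O' : (D.obj j).Opens} {U : (D.obj i).Opens}, O' ≤ D.map φ ⁻¹ᵁ U →
      c.π.app j ⁻¹ᵁ O' ≤ π ⁻¹ᵁ U := fun {O' U} h => by
    refine ((c.π.app j).preimage_mono h).trans (le_of_eq ?_)
    rw [← Scheme.Hom.comp_preimage, c.w]
  have heq : ∀ q, (c.π.app j).app (O q) (sv q) = (c.π.app j).app (O q) (tv q) := by
    intro q
    rw [Scheme.Hom.app_eq_appLE]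
    rcases q with k | ⟨k, l, n⟩
    · simp only [sv, tv, map_one]
      have h := hpre ((D.map φ).preimage_mono (le_inf (le_refl (W k)) le_rfl))
      rw [hval k k _ _ h]
      refine ((hε k).restrict (h.trans (hle₁ k k))).smul_left_injective le_rfl ?_
      simp only [InvExt.mres_mres]
      exact ((hres k k _ h).symm.trans (one_smul _ _).symm)
    · simp only [sv, tv, map_mul]
      let h : W k ⊓ W l ⊓ W n ≤ W k ⊓ W l := inf_le_left
      have hkn := hpre ((D.map φ).preimage_mono (le_inf ((h.trans inf_le_left : W k ⊓ W l ⊓ W n ≤ W k)) inf_le_right))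
      have hkl := hpre ((D.map φ).preimage_mono h)
      have hln := hpre ((D.map φ).preimage_mono (le_inf ((h.trans inf_le_right : W k ⊓ W l ⊓ W n ≤ W l)) inf_le_right))
      rw [hval k n _ _ hkn, hval k l _ _ hkl, hval l n _ _ hln]
      refine ((hε k).restrict (hkl.trans (hle₁ k l))).smul_left_injective le_rfl ?_
      simp only [InvExt.mres_mres]
      refine (hres k n _ hkn).symm.trans ((hres l n _ hln).trans ?_)
      refine (congrArg (_ • ·) (hres k l _ hkl)).trans ?_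
      rw [smul_smul, mul_comm]
      rfl
  obtain ⟨p, ψ, hψ⟩ := exists_stage_eq hc O hO sv tv heq Finset.univ
  -- the cocycle at the stage
  let χ := ψ ≫ φ
  have hχ : ∀ U : (D.obj i).Opens, D.map χ ⁻¹ᵁ U = D.map ψ ⁻¹ᵁ (D.map φ ⁻¹ᵁ U) := fun U => by
    rw [← Scheme.Hom.comp_preimage, ← D.map_comp]
  let gp : ∀ k l : T, Γ(D.obj p, D.map χ ⁻¹ᵁ W k ⊓ D.map χ ⁻¹ᵁ W l) := fun k l =>
    (D.map ψ).appLE _ _ ((le_of_eq (Scheme.Hom.preimage_inf _).symm).trans (hχ _).le) (a (k, l))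
  let c₀ : Cocycle (D.obj p) :=
    { ι := T
      D := fun k => D.map χ ⁻¹ᵁ W k
      g := gp
      cover := by rw [← Scheme.Hom.preimage_iSup, hWcov, Scheme.Hom.preimage_top]
      self := fun k U h => by
        have h1 : U ≤ D.map ψ ⁻¹ᵁ O (.inl k) := h.trans (hχ _).le
        have h0 := congrArg (res h1) (hψ (.inl k) (Finset.mem_univ _))
        simp only [sv, tv, map_one] at h0
        rw [Scheme.Hom.app_eq_appLE] at h0
        refine Eq.trans ?_ h0
        refine Eq.trans (res_appLE _ _ _ _) ?_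
        exact ((congrArg (res h1) (appLE_res _ _ _ _)).trans (res_appLE _ _ _ _)).symm
      change := fun k l n U hk hl hn => by
        have h1 : U ≤ D.map ψ ⁻¹ᵁ O (.inr (k, l, n)) := by
          show U ≤ D.map ψ ⁻¹ᵁ (D.map φ ⁻¹ᵁ (W k ⊓ W l ⊓ W n))
          rw [← hχ, Scheme.Hom.preimage_inf, Scheme.Hom.preimage_inf]
          exact le_inf (le_inf hk hl) hn
        have h0 := congrArg (res h1) (hψ (.inr (k, l, n)) (Finset.mem_univ _))
        simp only [sv, tv, map_mul] at h0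
        rw [Scheme.Hom.app_eq_appLE] at h0
        refine Eq.trans ?_ (h0.trans ?_)
        · exact (res_appLE _ _ _ _).trans ((congrArg (res h1) (appLE_res _ _ _ _)).trans (res_appLE _ _ _ _)).symm
        · exact congrArg₂ (· * ·)
            (((congrArg (res h1) (appLE_res _ _ _ _)).trans (res_appLE _ _ _ _)).trans (res_appLE _ _ _ _).symm)
            (((congrArg (res h1) (appLE_res _ _ _ _)).trans (res_appLE _ _ _ _)).trans (res_appLE _ _ _ _).symm) }
  refine ⟨p, c₀.twist 1, c₀.isInvertible_twist 1, ?_⟩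
  obtain ⟨θ⟩ := c₀.nonempty_pullback_iso (c.π.app p) (Iso.refl _)
  refine ⟨θ ≪≫ ?_⟩
  let d := c₀.comap (c.π.app p)
  have hd : ∀ k : T, d.D k = π ⁻¹ᵁ W k := fun k => by
    show c.π.app p ⁻¹ᵁ (D.map χ ⁻¹ᵁ W k) = _
    rw [← Scheme.Hom.comp_preimage, c.w]
  let ε' : ∀ k : T, Γ(L, d.D k) := fun k => mres L (hd k).le (ε k)
  have hfam : d.IsFamily 1 (M := L) ε' := fun k l U hk hl => by
    rw [pow_one]
    show mres L hl (mres L _ (ε l)) = d.G k l hk hl • mres L hk (mres L _ (ε k))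
    refine (InvExt.mres_mres L _ _ _).trans ?_
    have hU : U ≤ π ⁻¹ᵁ (W k ⊓ W l) := by
      rw [Scheme.Hom.preimage_inf]
      exact le_inf (hk.trans (hd k).le) (hl.trans (hd l).le)
    refine (hres k l U hU).trans (congrArg₂ (· • ·) ?_ (InvExt.mres_mres L _ _ _).symm)
    refine (congrArg (res hU) (ha (k, l)).symm).trans ((res_appLE _ _ _ _).trans ?_)
    refine Eq.trans ?_ (Cocycle.comap_G _ _ _ _ _ _).symm
    show _ = ((c.π.app p).appLE _ _ _).hom (((D.map ψ).appLE _ _ _).hom (a (k, l)))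
    simp only [← CommRingCat.comp_apply, Scheme.Hom.appLE_comp_appLE, c.w]
  haveI := d.isIso_homOfFamily hfam fun k => (hε k).restrict (hd k).le
  exact asIso (d.homOfFamily hfam)

end GrothLib.AmpSpread10
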