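import Groth.Agent.Lib.AmpSpread10.SectStage
import Groth.Agent.Lib.Ample.RelAmple
import Groth.Agent.Lib.Ample.Frame

/-!
# Ampleness descends along limits
-/

set_option autoImplicit false
set_option linter.all false
set_option backward.isDefEq.respectTransparency false
set_option maxHeartbeats 1000000

universe u

open CategoryTheory CategoryTheory.Limits AlgebraicGeometry Opposite TopologicalSpace
open GrothLib.Ample

noncomputable section

namespace GrothLib.AmpSpread10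

variable {I : Type u} [SmallCategory I] [IsCofiltered I] {D : I ⥤ Scheme.{u}} {c : Cone D} (hc : IsLimit c)
  [∀ (i j : I) (φ : i ⟶ j), IsAffineHom (D.map φ)] [∀ i, CompactSpace (D.obj i)]
  [∀ i, QuasiSeparatedSpace (D.obj i)]

include hc in
/-- A compact open which is affine in the limit is affine at a stage. -/
theorem exists_stage_isAffineOpen (l : I) (U : (D.obj l).Opens) (hU : IsCompact (U : Set (D.obj l)))
    (hA : IsAffineOpen (c.π.app l ⁻¹ᵁ U)) : ∃ (q : I) (χ : q ⟶ l), IsAffineOpen (D.map χ ⁻¹ᵁ U) := by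
  obtain ⟨i, V, hV, hVU⟩ := exists_isAffineOpen_preimage_eq D c hc _ hA
  let m := IsCofiltered.min l i
  let p₁ : m ⟶ l := IsCofiltered.minToLeft l i
  let p₂ : m ⟶ i := IsCofiltered.minToRight l i
  have h : c.π.app m ⁻¹ᵁ (D.map p₁ ⁻¹ᵁ U) = c.π.app m ⁻¹ᵁ (D.map p₂ ⁻¹ᵁ V) := by
    rw [← Scheme.Hom.comp_preimage, ← Scheme.Hom.comp_preimage, c.w, c.w, hVU]
  obtain ⟨q, χ, hq⟩ := exists_map_preimage_eq_map_preimage D c hc
    (QuasiCompact.isCompact_preimage (f := D.map p₁) _ U.2 hU)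
    (hV.preimage (D.map p₂)).isCompact h
  refine ⟨q, χ ≫ p₁, ?_⟩
  rw [D.map_comp, Scheme.Hom.comp_preimage, hq]
  exact (hV.preimage _).preimage _

include hc in
/-- **An invertible module which is ample on the limit is ample at a stage.** -/
theorem exists_stage_isAmple (i₀ : I) {L₀ : (D.obj i₀).Modules} (hL₀ : PicF.IsInvertible L₀)
    (h : CohB1.IsAmple ((Scheme.Modules.pullback (c.π.app i₀)).obj L₀)) :
    ∃ (i : I) (φ : i ⟶ i₀), CohB1.IsAmple ((Scheme.Modules.pullback (D.map φ)).obj L₀) := by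
  classical
  obtain ⟨c₀, ⟨e₀⟩⟩ := Ample.exists_cocycle hL₀
  obtain ⟨e⟩ := c₀.nonempty_pullback_iso (c.π.app i₀) e₀
  obtain ⟨-, hamp⟩ := ((c₀.comap (c.π.app i₀)).isAmple_iff e).1 h
  haveI : CompactSpace c.pt := Scheme.compactSpace_of_isLimit D c hc
  choose n b hzb hb using hamp
  obtain ⟨T, hT⟩ := (isCompact_univ : IsCompact (Set.univ : Set c.pt)).elim_finite_subcover
    (fun z => ((show c.pt.Opens from (c₀.comap (c.π.app i₀)).locus (b z)) : Set c.pt)) (fun z => (Opens.isOpen _))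
    fun z _ => Set.mem_iUnion.2 ⟨z, hzb z⟩
  obtain ⟨l, φ, hl⟩ := exists_sect_stage hc i₀ c₀ (fun z : T => n z.1 + 1) (fun z : T => b z.1)
  choose a ha using hl
  let c₂ := c₀.comap (D.map φ)
  have hcpt : ∀ z, IsCompact (c₂.locus (a z) : Set (D.obj l)) := fun z => by
    haveI := c₂.isAffineHom_locus_ι (a z)
    exact isCompact_iff_compactSpace.mpr (QuasiCompact.compactSpace_of_compactSpace (c₂.locus (a z)).ι)
  have haff : ∀ z, ∃ q : Over l, IsAffineOpen (D.map q.hom ⁻¹ᵁ c₂.locus (a z)) := fun z => by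
    obtain ⟨q, χ, hq⟩ := exists_stage_isAffineOpen hc l _ (hcpt z) (by rw [ha z]; exact hb z.1)
    exact ⟨Over.mk χ, hq⟩
  choose q hq using haff
  obtain ⟨q₀, χ₀, hq₀⟩ := exists_map_eq_top D c hc (⨆ z, c₂.locus (a z)) (by
    refine eq_top_iff.2 fun z _ => ?_
    obtain ⟨w, hw, hzw⟩ := Set.mem_iUnion₂.1 (hT (Set.mem_univ z))
    have hz : z ∈ c.π.app l ⁻¹ᵁ c₂.locus (a ⟨w, hw⟩) := by rw [ha]; exact hzw
    exact Opens.mem_iSup.2 ⟨⟨w, hw⟩, hz⟩)
  obtain ⟨m, hm⟩ := IsCofiltered.inf_objs_exists (insert (Over.mk χ₀) (Finset.univ.image q))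
  let ψ := D.map m.hom
  refine ⟨m.left, m.hom ≫ φ, ?_⟩
  obtain ⟨e₂⟩ := c₀.nonempty_pullback_iso (D.map φ) e₀
  obtain ⟨e₃⟩ := c₂.nonempty_pullback_iso ψ e₂
  refine (Ample.isAmple_iff_of_iso ((Scheme.Modules.pullbackComp ψ (D.map φ)).app L₀ ≪≫
    (Scheme.Modules.pullbackCongr (D.map_comp m.hom φ).symm).app L₀)).1
    (((c₂.comap ψ).isAmple_iff e₃).2 ⟨inferInstance, fun w => ?_⟩)
  obtain ⟨g₀⟩ := hm (Finset.mem_insert_self _ _)
  have hw : ψ w ∈ ⨆ z, c₂.locus (a z) := by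
    have h1 : D.map g₀.left w ∈ D.map χ₀ ⁻¹ᵁ ⨆ z, c₂.locus (a z) := by rw [hq₀]; trivial
    have h2 : D.map g₀.left ≫ D.map χ₀ = ψ := by
      rw [← D.map_comp]
      exact congrArg D.map (Over.w g₀)
    rw [← h2]
    exact h1
  obtain ⟨z, hz⟩ := Opens.mem_iSup.1 hw
  refine ⟨n z.1, c₂.pullSect ψ (le_top : (⊤ : (D.obj m.left).Opens) ≤ ψ ⁻¹ᵁ ⊤) (a z), ?_, ?_⟩
  · rw [c₂.locus_pullSect]
    exact hz
  · rw [c₂.locus_pullSect]
    obtain ⟨g⟩ := hm (Finset.mem_insert_of_mem (Finset.mem_image_of_mem q (Finset.mem_univ z)))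
    have h2 : D.map g.left ≫ D.map (q z).hom = ψ := by
      rw [← D.map_comp]
      exact congrArg D.map (Over.w g)
    rw [← h2, Scheme.Hom.comp_preimage]
    exact (hq z).preimage _

end GrothLib.AmpSpread10
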