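import Mathlib.AlgebraicGeometry.AffineTransitionLimit
import Mathlib.CategoryTheory.Filtered.Final

/-!
# Base change of a limit of schemes over the stages of a limit of bases
-/

set_option autoImplicit false
set_option linter.all false
set_option backward.isDefEq.respectTransparency false

universe u

open CategoryTheory CategoryTheory.Limits AlgebraicGeometry

noncomputable section

namespace GrothLib.AmpSpread10

variable {I : Type u} [SmallCategory I] [IsCofiltered I] {D : I ⥤ Scheme.{u}} {c : Cone D} {l : I}
  {Z : Over l ⥤ Scheme.{u}} (h : ∀ j, Z.obj j ⟶ D.obj j.left)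
  (hn : ∀ {j k : Over l} (φ : j ⟶ k), Z.map φ ≫ h k = h j ≫ D.map φ.left)
  {T : Scheme.{u}} (x : T ⟶ c.pt)

/-- The base changes of the stages along a morphism to the limit of the bases. -/
def fibSys : Over l ⥤ Scheme.{u} where
  obj j := pullback (h j) (x ≫ c.π.app j.left)
  map {j k} φ := pullback.map _ _ _ _ (Z.map φ) (𝟙 T) (D.map φ.left) (hn φ).symm
    (by rw [Category.id_comp, Category.assoc, c.w])
  map_id j := by
    apply pullback.hom_ext
    · simp [pullback.map]
    · simp [pullback.map]
  map_comp φ ψ := by
    apply pullback.hom_ext
    · simp [pullback.map]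
    · simp [pullback.map]

variable {cZ : Cone Z} (f : cZ.pt ⟶ c.pt) (hf : ∀ j, cZ.π.app j ≫ h j = f ≫ c.π.app j.left)

/-- The cone over the base changes. -/
def fibCone : Cone (fibSys h hn x) where
  pt := pullback f x
  π :=
    { app := fun j => pullback.lift (pullback.fst f x ≫ cZ.π.app j) (pullback.snd f x)
        (by rw [Category.assoc, hf, pullback.condition_assoc])
      naturality := fun j k φ => by
        refine (Category.id_comp _).trans ?_
        show _ = _ ≫ pullback.map _ _ _ _ (Z.map φ) (𝟙 T) (D.map φ.left) (hn φ).symm
          (by rw [Category.id_comp, Category.assoc, c.w])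
        apply pullback.hom_ext
        · simp only [pullback.map, Category.assoc, pullback.lift_fst, pullback.lift_fst_assoc, cZ.w]
        · simp only [pullback.map, Category.assoc, pullback.lift_snd, Category.comp_id] }

/-- The base change of the limit is the limit of the base changes. -/
def isLimitFibCone (hc : IsLimit c) (hZ : IsLimit cZ) : IsLimit (fibCone h hn x f hf) := by
  have hc' : IsLimit (c.whisker (Over.forget l)) := (Functor.Initial.isLimitWhiskerEquiv (Over.forget l) c).symm hc
  have hcompat : ∀ (s : Cone (fibSys h hn x)) {j k : Over l} (φ : j ⟶ k),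
      s.π.app j ≫ pullback.snd _ _ = s.π.app k ≫ pullback.snd _ _ := fun s j k φ => by
    rw [← s.w φ]
    simp [fibSys]
  haveI : IsConnected (Over l) := IsCofiltered.isConnected _
  have hconst : ∀ (s : Cone (fibSys h hn x)) (j k : Over l),
      s.π.app j ≫ pullback.snd _ _ = s.π.app k ≫ pullback.snd _ _ := fun s j k =>
    constant_of_preserves_morphisms (fun j => s.π.app j ≫ pullback.snd (h j) (x ≫ c.π.app j.left))
      (fun _ _ φ => hcompat s φ) j k
  let top : Over l := Over.mk (𝟙 l)
  have ex : ∀ s : Cone (fibSys h hn x), ∃ m : s.pt ⟶ pullback f x,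
      ∀ j, m ≫ (fibCone h hn x f hf).π.app j = s.π.app j := by
    intro s
    let sZ : Cone Z :=
      { pt := s.pt
        π :=
          { app := fun j => s.π.app j ≫ pullback.fst _ _
            naturality := fun j k φ => by
              refine (Category.id_comp _).trans ?_
              rw [← s.w φ]
              simp [fibSys] } }
    let t : s.pt ⟶ T := s.π.app top ≫ pullback.snd _ _
    have hm : hZ.lift sZ ≫ f = t ≫ x := by
      refine hc'.hom_ext fun j => ?_
      show (hZ.lift sZ ≫ f) ≫ c.π.app j.left = (t ≫ x) ≫ c.π.app j.left
      rw [Category.assoc, ← hf, hZ.fac_assoc, Category.assoc]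
      show (s.π.app j ≫ pullback.fst _ _) ≫ h j = _
      rw [Category.assoc, pullback.condition, ← Category.assoc, hconst s j top]
      exact (Category.assoc _ _ _).symm
    refine ⟨pullback.lift (hZ.lift sZ) t hm, fun j => ?_⟩
    apply pullback.hom_ext
    · simp [fibCone, sZ]
    · simp only [fibCone, Category.assoc, pullback.lift_snd]
      exact hconst s top j
  choose m hm using ex
  refine { lift := m, fac := hm, uniq := fun s g hg => ?_ }
  apply pullback.hom_ext
  · refine hZ.hom_ext fun j => ?_
    have e1 := congrArg (fun q => q ≫ pullback.fst _ _) ((hg j).trans (hm s j).symm)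
    simp only [fibCone, Category.assoc, pullback.lift_fst] at e1 ⊢
    exact e1
  · have e1 := congrArg (fun q => q ≫ pullback.snd _ _) ((hg top).trans (hm s top).symm)
    simp only [fibCone, Category.assoc, pullback.lift_snd] at e1
    exact e1

end GrothLib.AmpSpread10
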