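import Groth.Agent.Lib.HilbDesc10.Stage
import Groth.Agent.Lib.LimDescend.Property
import Groth.Agent.Lib.ConsLim.LimTop
import Groth.Agent.Lib.CritMod6.Main
import Groth.Agent.Lib.Seesaw26.LocalGood
import Groth.Agent.Lib.ModelK.Exists
import Groth.Agent.Lib.OX.OneDegLocus
import Groth.Agent.S4652

/-!
# Invertible modules descend along limits
-/

set_option autoImplicit false
set_option linter.all false
set_option backward.isDefEq.respectTransparency false
set_option maxHeartbeats 2000000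

universe u

open CategoryTheory CategoryTheory.Limits AlgebraicGeometry Opposite TopologicalSpace
open GrothLib.LimDescend GrothLib.LimDesc

noncomputable section

namespace GrothLib.AmpSpread10

theorem isFlat_iff_isFlatOver_id {X : Scheme.{u}} (M : X.Modules) :
    FlatMod.IsFlat M ↔ FlatMod.IsFlatOver (𝟙 X) M := by
  refine forall_congr' fun x => ?_
  unfold FlatMod.IsFlatAt FlatMod.IsFlatOverAt
  rw [CritMod6.moduleStalkOver_id]
  rfl

/-- The ranks of a free module restricted to a nonempty scheme are unique. -/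
theorem eq_one_of_pullback {X Y : Scheme.{u}} (g : Y ⟶ X) (y : Y) {G : X.Modules} {r : ℕ}
    (h : FlatMod.IsFinLocFreeOfRank r G) (h1 : PicF.IsInvertible ((Scheme.Modules.pullback g).obj G)) : r = 1 :=
  (ModelK.rkAt_eq (x := y) (OX.isFinLocFreeOfRank_pullback g h)).symm.trans
    (ModelK.rkAt_eq (x := y) ((Seesaw26.isInvertible_iff_rank_one _).2 h1))

variable {I : Type u} [SmallCategory I] [IsCofiltered I] {D : I ⥤ Scheme.{u}} {c : Cone D} (hc : IsLimit c)
  [∀ (i j : I) (φ : i ⟶ j), IsAffineHom (D.map φ)]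

include hc in
/-- **A coherent module which becomes invertible in the limit is invertible at a stage.** -/
theorem exists_stage_isInvertible (i : I) [CompactSpace (D.obj i)] [QuasiSeparatedSpace (D.obj i)]
    (G : (D.obj i).Modules) [G.IsQuasicoherent] (hG : CohB1.IsFP G)
    (hinv : PicF.IsInvertible ((Scheme.Modules.pullback (c.π.app i)).obj G)) :
    ∃ (j : I) (φ : j ⟶ i), PicF.IsInvertible ((Scheme.Modules.pullback (D.map φ)).obj G) := by
  classical
  -- flatness
  obtain ⟨j, hj⟩ := FlatLimit.exists_stage_flatOver D hc (𝟙 (D.obj i)) (𝟙 (D.obj i)) (g := 𝟙 c.pt) (f := 𝟙 c.pt)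
    (qY := c.π.app i) (qX := c.π.app i) ModDesc.isPullback_id ModDesc.isPullback_id G hG
    (Seesaw26.isFlatOver_of_isInvertible (𝟙 c.pt) hinv)
  let ψ : D.obj j.left ⟶ D.obj i := D.map j.hom
  let G₁ := (Scheme.Modules.pullback ψ).obj G
  haveI : G₁.IsQuasicoherent := FittSheaf.isQuasicoherent_pullback ψ G
  have hG₁ : CohB1.IsFP G₁ := FittSheaf.isFP_pullback ψ G hG
  have hflat : FlatMod.IsFlat G₁ := by
    rw [isFlat_iff_isFlatOver_id]
    let P := pullback ((𝟙 (D.obj i) ≫ 𝟙 (D.obj i))) (D.map j.hom)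
    let a := (mapNat D i (𝟙 (D.obj i)) (𝟙 (D.obj i) ≫ 𝟙 (D.obj i)) (𝟙 (D.obj i)) rfl).app j
    let t : D.obj j.left ⟶ P := pullback.lift ψ (𝟙 _) (by simp [ψ])
    haveI : IsIso (pullback.snd (𝟙 (D.obj i)) (D.map j.hom)) := inferInstance
    haveI : IsIso t := by
      haveI : IsIso (pullback.snd (𝟙 (D.obj i) ≫ 𝟙 (D.obj i)) (D.map j.hom)) := inferInstance
      have e : t ≫ pullback.snd _ _ = 𝟙 _ := pullback.lift_snd _ _ _
      exact IsIso.of_isIso_fac_right e
    intro x
    have h1 := FlatDesc.isFlatOverAt_comp a (pullback.snd (𝟙 (D.obj i)) (D.map j.hom)) _ _ (hj (t x))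
    have h2 := (FlatDesc.isFlatOverAt_comp_pullback_iff t _ _ x).2 h1
    have e2 : t ≫ a ≫ pullback.snd (𝟙 (D.obj i)) (D.map j.hom) = 𝟙 _ := by
      rw [show a ≫ pullback.snd (𝟙 (D.obj i)) (D.map j.hom) = pullback.snd _ _ from pullback.lift_snd _ _ _]
      exact pullback.lift_snd _ _ _
    rw [e2] at h2
    exact (FlatFP.isFlatOverAt_congr _ ((Scheme.Modules.pullbackComp t _).app G ≪≫
      (Scheme.Modules.pullbackCongr (pullback.lift_fst _ _ _)).app G) x).1 h2
  have hlim : PicF.IsInvertible ((Scheme.Modules.pullback (c.π.app j.left)).obj G₁) :=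
    ParaPair.isInvertible_of_iso ((Scheme.Modules.pullbackComp (c.π.app j.left) ψ).app G ≪≫
      (Scheme.Modules.pullbackCongr (c.w j.hom)).app G) hinv
  -- the invertible locus
  let S : Set (D.obj j.left).Opens := {U | PicF.IsInvertible (G₁.restrict U.ι)}
  let V : (D.obj j.left).Opens := sSup S
  have hV : c.π.app j.left ⁻¹' (V : Set (D.obj j.left)) = Set.univ := by
    refine Set.eq_univ_of_forall fun z => ?_
    obtain ⟨U, hzU, hU⟩ := (Groth.Agent.S4652.result G₁ hG₁ (c.π.app j.left z)).1 (hflat _)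
    obtain ⟨U', r, hzU', ⟨e⟩⟩ := hU ⟨_, hzU⟩
    let q : (U' : Scheme.{u}) ⟶ D.obj j.left := U'.ι ≫ U.ι
    have hr : FlatMod.IsFinLocFreeOfRank r ((Scheme.Modules.pullback q).obj G₁) :=
      OX.isFinLocFreeOfRank_of_iso (e.symm ≪≫ (Scheme.Modules.restrictFunctorIsoPullback U'.ι).app _ ≪≫
        (Scheme.Modules.pullbackComp U'.ι U.ι).app G₁) (K0Sub.isFinLocFreeOfRank_freeMod r)
    have hzq : c.π.app j.left z ∈ q.opensRange := ⟨⟨⟨_, hzU⟩, hzU'⟩, rfl⟩
    let W : c.pt.Opens := c.π.app j.left ⁻¹ᵁ q.opensRange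
    have hW : Set.range (W.ι ≫ c.π.app j.left) ⊆ Set.range q := by
      rintro _ ⟨w, rfl⟩
      exact w.2
    let g := IsOpenImmersion.lift q (W.ι ≫ c.π.app j.left) hW
    have hr1 : r = 1 := eq_one_of_pullback g ⟨z, hzq⟩ hr
      (ParaPair.isInvertible_of_iso ((Scheme.Modules.pullbackComp g q).app G₁ ≪≫
        (Scheme.Modules.pullbackCongr (IsOpenImmersion.lift_fac _ _ _)).app G₁ ≪≫
        ((Scheme.Modules.pullbackComp W.ι (c.π.app j.left)).app G₁).symm)
        (Ample.isInvertible_pullback W.ι hlim))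
    subst hr1
    refine Opens.mem_sSup.2 ⟨q.opensRange, ?_, hzq⟩
    have hqinv := (Seesaw26.isInvertible_iff_rank_one _).1 hr
    let iq := q.isoOpensRange
    have hiq : iq.inv ≫ q = q.opensRange.ι := by rw [Iso.inv_comp_eq, Scheme.Hom.isoOpensRange_hom_ι]
    exact ParaPair.isInvertible_of_iso ((Scheme.Modules.restrictFunctorIsoPullback q.opensRange.ι).app G₁ ≪≫
      (Scheme.Modules.pullbackCongr hiq.symm).app G₁ ≪≫ ((Scheme.Modules.pullbackComp iq.inv q).app G₁).symm)
      (Ample.isInvertible_pullback iq.inv hqinv)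
  haveI : CompactSpace (D.obj j.left) := QuasiCompact.compactSpace_of_compactSpace (D.map j.hom)
  obtain ⟨k, χ, hk⟩ := ConsLim.exists_stage_eq_top D c hc j.left V.2 hV
  refine ⟨k, χ ≫ j.hom, ?_⟩
  let G₂ := (Scheme.Modules.pullback (D.map χ)).obj G₁
  refine ParaPair.isInvertible_of_iso ((Scheme.Modules.pullbackCongr (D.map_comp χ j.hom)).app G ≪≫
    ((Scheme.Modules.pullbackComp (D.map χ) ψ).app G).symm) (show PicF.IsInvertible G₂ from ?_)
  refine Ample.isInvertible_of_restrict (fun U : S => D.map χ ⁻¹ᵁ U.1) ?_ fun U => ?_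
  · refine eq_top_iff.2 fun w _ => ?_
    obtain ⟨U, hU, hw⟩ := Opens.mem_sSup.1 ((Set.eq_univ_iff_forall.1 hk w : _) : D.map χ w ∈ V)
    exact Opens.mem_iSup.2 ⟨⟨U, hU⟩, hw⟩
  · exact ParaPair.isInvertible_of_iso ((OX.pullSquareIso (D.map χ) U.1).app G₁)
      (Ample.isInvertible_pullback (D.map χ ∣_ U.1) U.2)

/-- **Noetherian model of a proper finitely presented scheme with an invertible module.** -/
theorem exists_noetherian_model_invertible (A : Type u) [CommRing A] {X : Scheme.{u}}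
    (f : X ⟶ Spec (CommRingCat.of A)) [LocallyOfFinitePresentation f] [IsProper f] {L : X.Modules}
    (hL : PicF.IsInvertible L) :
    ∃ A₀ : Subalgebra ℤ A, IsNoetherianRing A₀ ∧
      ∃ (X₀ : Scheme.{u}) (f₀ : X₀ ⟶ Spec (CommRingCat.of A₀)) (g : X ⟶ X₀) (L₀ : X₀.Modules),
        IsProper f₀ ∧ PicF.IsInvertible L₀ ∧
        IsPullback g f f₀ (Spec.map (CommRingCat.ofHom (algebraMap A₀ A))) ∧
        Nonempty ((Scheme.Modules.pullback g).obj L₀ ≅ L) := by
  have hnoeth : ∀ S : LimDescend.FgSub A, IsNoetherianRing S.1 := fun S => by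
    haveI : Algebra.FiniteType ℤ S.1 := (Subalgebra.fg_iff_finiteType S.1).1 S.2
    exact Algebra.FiniteType.isNoetherianRing ℤ S.1
  haveI : ∀ S : (LimDescend.FgSub A)ᵒᵖ, IsAffine ((fgDiagram A).obj S) := fun S => by
    dsimp [fgDiagram]; infer_instance
  haveI : ∀ S : (LimDescend.FgSub A)ᵒᵖ, IsLocallyNoetherian ((fgDiagram A).obj S) := fun S => by
    haveI := hnoeth S.unop
    show IsLocallyNoetherian (Spec (CommRingCat.of S.unop.1))
    infer_instance
  haveI : ∀ (S T : (LimDescend.FgSub A)ᵒᵖ) (h : S ⟶ T), IsAffineHom ((fgDiagram A).map h) :=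
    fun S T h => isAffineHom_of_isAffine _
  have hc := isLimitFgCone A
  obtain ⟨i, ⟨M₀⟩⟩ := LimDescend.exists_model (fgDiagram A) (fgCone A) hc f
  -- properness
  haveI : CompactSpace M₀.obj := QuasiCompact.compactSpace_of_compactSpace M₀.hom
  haveI : QuasiSeparatedSpace M₀.obj := quasiSeparatedSpace_of_quasiSeparated M₀.hom
  obtain ⟨k, hk⟩ := LimDesc.exists_isProper (fgDiagram A) hc M₀.hom (𝟙 ((fgDiagram A).obj i))
    ModDesc.isPullback_id M₀.isPullback
  let M : Model (fgDiagram A) (fgCone A) f k.left := (ModDesc.postId M₀).map _ _ k.hom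
  haveI := hk
  haveI hM : IsProper M.hom := by
    show IsProper ((ModDesc.postId M₀).map (fgDiagram A) (fgCone A) k.hom).hom
    rw [← ModDesc.mapNat_comp_snd M₀ k]
    haveI : IsIso (pullback.snd (𝟙 ((fgDiagram A).obj i)) ((fgDiagram A).map k.hom)) := inferInstance
    infer_instance
  -- the module
  haveI : L.IsQuasicoherent := InvExt.isQuasicoherent_of_isInvertible hL
  obtain ⟨l, φ, G, hG, ⟨e⟩⟩ := HilbDesc10.exists_stage_module hc M L
    (LocFree8.isFP_of_isFinLocFree _ (Euler.isFinLocFree_of_isInvertible hL))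
  let M₁ : Model (fgDiagram A) (fgCone A) f l := M.map _ _ φ
  haveI : IsProper M₁.hom := inferInstanceAs (IsProper (pullback.snd M.hom ((fgDiagram A).map φ)))
  haveI : ∀ (j k : Over l) (χ : j ⟶ k), IsAffineHom ((diag (fgDiagram A) l M₁.hom).map χ) :=
    fun j k χ => LimDesc.isAffineHom_map (fgDiagram A) l M₁.hom χ
  haveI : IsLocallyNoetherian M₁.obj := ModDesc.isLocallyNoetherian_model M₁
  let cn := cone (fgDiagram A) (c := fgCone A) l M₁.hom M₁.isPullback
  have hcn : IsLimit cn := isLimitCone (fgDiagram A) (c := fgCone A) l M₁.hom M₁.isPullback hc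
  let top : Over l := Over.mk (𝟙 l)
  let p₁ : (diag (fgDiagram A) l M₁.hom).obj top ⟶ M₁.obj := pullback.fst _ _
  haveI : IsAffineHom p₁ := MorphismProperty.pullback_fst (P := @IsAffineHom) _ _ inferInstance
  haveI : CompactSpace M₁.obj := QuasiCompact.compactSpace_of_compactSpace M₁.hom
  haveI : CompactSpace ((diag (fgDiagram A) l M₁.hom).obj top) := LimDesc.compactSpace_obj _ l M₁.hom top
  haveI : QuasiSeparatedSpace ((diag (fgDiagram A) l M₁.hom).obj top) := LimDesc.quasiSeparatedSpace_obj _ l M₁.hom top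
  haveI := hG.1
  let G' := (Scheme.Modules.pullback p₁).obj G
  have hG' : Coh.IsCoh G' := by
    haveI : IsLocallyNoetherian ((diag (fgDiagram A) l M₁.hom).obj top) :=
      ModDesc.isLocallyNoetherian_model (M₁.map (fgDiagram A) (fgCone A) top.hom)
    exact ModDesc.isCoh_pullback p₁ G hG
  haveI := hG'.1
  haveI : IsLocallyNoetherian ((diag (fgDiagram A) l M₁.hom).obj top) :=
    ModDesc.isLocallyNoetherian_model (M₁.map (fgDiagram A) (fgCone A) top.hom)
  have hπ : cn.π.app top ≫ p₁ = M₁.proj := pullback.lift_fst _ _ _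
  obtain ⟨j, χ, hinv⟩ := exists_stage_isInvertible hcn top G'
    (QCoh.isFinitePresentation_of_isFiniteType G' hG'.2)
    (ParaPair.isInvertible_of_iso ((Scheme.Modules.pullbackComp (cn.π.app top) p₁).app G ≪≫
      (Scheme.Modules.pullbackCongr hπ).app G ≪≫ e) hL)
  let M₂ := M₁.map (fgDiagram A) (fgCone A) j.hom
  refine ⟨j.left.unop.1, hnoeth j.left.unop, M₂.obj, M₂.hom, M₂.proj,
    (Scheme.Modules.pullback ((diag (fgDiagram A) l M₁.hom).map χ)).obj G',
    inferInstanceAs (IsProper (pullback.snd M₁.hom ((fgDiagram A).map j.hom))), hinv, M₂.isPullback,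
    ⟨(Scheme.Modules.pullbackComp (cn.π.app j) ((diag (fgDiagram A) l M₁.hom).map χ)).app G' ≪≫
      (Scheme.Modules.pullbackCongr (cn.w χ)).app G' ≪≫
      (Scheme.Modules.pullbackComp (cn.π.app top) p₁).app G ≪≫
      (Scheme.Modules.pullbackCongr hπ).app G ≪≫ e⟩⟩

end GrothLib.AmpSpread10
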