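import Groth.Agent.Lib.AmpSpread10.Spread
import Groth.Agent.Lib.AmpSpread10.InvModel
import Groth.Agent.Lib.AmpSpread10.LimAmple
import Groth.Agent.Lib.AmpSpread10.FibSys
import Groth.Agent.Lib.AbsApprox.ProperSystem
import Groth.Agent.Lib.AbsApprox.ImageSystem

/-!
# Ampleness on a fibre spreads: arbitrary proper morphisms
-/

set_option autoImplicit false
set_option linter.all false
set_option backward.isDefEq.respectTransparency false
set_option maxHeartbeats 2000000

universe u

open CategoryTheory CategoryTheory.Limits AlgebraicGeometry Opposite TopologicalSpace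
open GrothLib.LimDescend GrothLib.LimDesc

noncomputable section

namespace GrothLib.AmpSpread10

/-- A proper scheme of finite presentation over an affine base has a proper model. -/
theorem exists_proper_model (A : Type u) [CommRing A] {X : Scheme.{u}}
    (f : X ⟶ Spec (CommRingCat.of A)) [LocallyOfFinitePresentation f] [IsProper f] :
    ∃ (i : (LimDescend.FgSub A)ᵒᵖ) (M : Model (fgDiagram A) (fgCone A) f i), IsProper M.hom := by
  haveI : ∀ S : (LimDescend.FgSub A)ᵒᵖ, IsAffine ((fgDiagram A).obj S) := fun S => by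
    dsimp [fgDiagram]; infer_instance
  haveI : ∀ (S T : (LimDescend.FgSub A)ᵒᵖ) (h : S ⟶ T), IsAffineHom ((fgDiagram A).map h) :=
    fun S T h => isAffineHom_of_isAffine _
  have hc := isLimitFgCone A
  obtain ⟨i, ⟨M₀⟩⟩ := LimDescend.exists_model (fgDiagram A) (fgCone A) hc f
  haveI : CompactSpace M₀.obj := QuasiCompact.compactSpace_of_compactSpace M₀.hom
  haveI : QuasiSeparatedSpace M₀.obj := quasiSeparatedSpace_of_quasiSeparated M₀.hom
  obtain ⟨k, hk⟩ := LimDesc.exists_isProper (fgDiagram A) hc M₀.hom (𝟙 ((fgDiagram A).obj i))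
    ModDesc.isPullback_id M₀.isPullback
  haveI := hk
  refine ⟨k.left, (ModDesc.postId M₀).map _ _ k.hom, ?_⟩
  show IsProper ((ModDesc.postId M₀).map (fgDiagram A) (fgCone A) k.hom).hom
  rw [← ModDesc.mapNat_comp_snd M₀ k]
  haveI : IsIso (pullback.snd (𝟙 ((fgDiagram A).obj i)) ((fgDiagram A).map k.hom)) := inferInstance
  infer_instance

/-- A proper scheme with an invertible module maps affinely to a proper scheme over a Noetherian ring on which
the module is defined and ample at the image of a given fibre with ample restriction. -/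
theorem exists_affine_model_ample_fibre (A : Type u) [CommRing A] {X : Scheme.{u}}
    (f : X ⟶ Spec (CommRingCat.of A)) [IsProper f] {L : X.Modules} (hL : PicF.IsInvertible L)
    (p : Spec (CommRingCat.of A))
    (hp : CohB1.IsAmple ((Scheme.Modules.pullback (f.fiberι p)).obj L)) :
    ∃ (S₀ Z : Scheme.{u}) (h : Z ⟶ S₀) (π : X ⟶ Z) (s : Spec (CommRingCat.of A) ⟶ S₀) (L₀ : Z.Modules),
      IsLocallyNoetherian S₀ ∧ IsProper h ∧ IsAffineHom π ∧ π ≫ h = f ≫ s ∧ PicF.IsInvertible L₀ ∧
        Nonempty ((Scheme.Modules.pullback π).obj L₀ ≅ L) ∧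
        CohB1.IsAmple ((Scheme.Modules.pullback (h.fiberι (s p))).obj L₀) := by
  have hnoeth : ∀ S : LimDescend.FgSub A, IsNoetherianRing S.1 := fun S => by
    haveI : Algebra.FiniteType ℤ S.1 := (Subalgebra.fg_iff_finiteType S.1).1 S.2
    exact Algebra.FiniteType.isNoetherianRing ℤ S.1
  haveI : ∀ S : (LimDescend.FgSub A)ᵒᵖ, IsAffine ((fgDiagram A).obj S) := fun S => by
    dsimp [fgDiagram]; infer_instance
  haveI : ∀ S : (LimDescend.FgSub A)ᵒᵖ, IsLocallyNoetherian ((fgDiagram A).obj S) := fun S => by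
    haveI := hnoeth S.unop
    show IsLocallyNoetherian (Spec (CommRingCat.of S.unop.1))
    infer_instance
  haveI : ∀ (S T : (LimDescend.FgSub A)ᵒᵖ) (h : S ⟶ T), IsAffineHom ((fgDiagram A).map h) :=
    fun S T h => isAffineHom_of_isAffine _
  have hc := isLimitFgCone A
  -- a closed immersion into a proper scheme of finite presentation and its model
  obtain ⟨I, _, _, _, Ds, πs, -, hD, -, hπ⟩ := AbsApprox.exists_proper_system f
  obtain ⟨i₁⟩ : Nonempty Iᵒᵖ := inferInstance
  let f' : (Ds.obj i₁).left ⟶ Spec (CommRingCat.of A) := (Ds.obj i₁).hom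
  let ι' : X ⟶ (Ds.obj i₁).left := (πs.app i₁).left
  haveI : IsClosedImmersion ι' := hπ i₁
  have hι' : ι' ≫ f' = f := Over.w (πs.app i₁)
  haveI : IsProper f' := (hD i₁).1
  haveI : LocallyOfFinitePresentation f' := (hD i₁).2
  obtain ⟨l, M, hM⟩ := exists_proper_model A f'
  haveI := hM
  -- the system of images
  let G := diag (fgDiagram A) l M.hom
  let cn := cone (fgDiagram A) (c := fgCone A) l M.hom M.isPullback
  have hcn : IsLimit cn := isLimitCone (fgDiagram A) (c := fgCone A) l M.hom M.isPullback hc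
  haveI : ∀ (j k : Over l) (χ : j ⟶ k), IsAffineHom (G.map χ) :=
    fun j k χ => LimDesc.isAffineHom_map (fgDiagram A) l M.hom χ
  haveI : ∀ i, IsAffineHom (cn.π.app i) := fun i => isAffineHom_π_app G cn hcn i
  let ι₁ : X ⟶ cn.pt := ι'
  haveI : IsClosedImmersion ι₁ := hπ i₁
  let Z := AbsApprox.imageSys G cn ι₁
  let cZ := AbsApprox.imageCone G cn ι₁
  have hcZ : IsLimit cZ := AbsApprox.isLimitImageCone G cn ι₁ hcn
  haveI : ∀ (j k : Over l) (χ : j ⟶ k), IsAffineHom (Z.map χ) :=
    fun j k χ => AbsApprox.isAffineHom_imageSys G cn ι₁ χ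
  let incl := AbsApprox.imageIncl G cn ι₁
  let h : ∀ j, Z.obj j ⟶ (fgDiagram A).obj j.left := fun j => incl.app j ≫ pullback.snd _ _
  haveI hh : ∀ j, IsProper (h j) := fun j => by
    haveI : IsProper (pullback.snd M.hom ((fgDiagram A).map j.hom)) :=
      MorphismProperty.pullback_snd _ _ inferInstance
    exact inferInstanceAs (IsProper (incl.app j ≫ pullback.snd _ _))
  haveI : ∀ j, IsLocallyNoetherian (Z.obj j) := fun j => LocallyOfFiniteType.isLocallyNoetherian (h j)
  haveI : ∀ j, CompactSpace (Z.obj j) := fun j => QuasiCompact.compactSpace_of_compactSpace (h j)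
  haveI : ∀ j, QuasiSeparatedSpace (Z.obj j) := fun j => quasiSeparatedSpace_of_quasiSeparated (h j)
  have hn : ∀ {j k : Over l} (φ : j ⟶ k), Z.map φ ≫ h k = h j ≫ (fgDiagram A).map φ.left := fun {j k} φ => by
    show Z.map φ ≫ incl.app k ≫ pullback.snd _ _ = (incl.app j ≫ pullback.snd _ _) ≫ _
    rw [incl.naturality_assoc, Category.assoc]
    congr 1
    exact pullback.lift_snd _ _ _
  have hf : ∀ j, cZ.π.app j ≫ h j = f ≫ (fgCone A).π.app j.left := fun j => by
    show cZ.π.app j ≫ incl.app j ≫ pullback.snd _ _ = _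
    rw [← Category.assoc, AbsApprox.imageCone_π, Category.assoc, LimDesc.π_snd, ← hι', Category.assoc]
  -- the module
  let top : Over l := Over.mk (𝟙 l)
  haveI : L.IsQuasicoherent := InvExt.isQuasicoherent_of_isInvertible hL
  haveI : (show cZ.pt.Modules from L).IsQuasicoherent := InvExt.isQuasicoherent_of_isInvertible hL
  obtain ⟨j₁, -, G₁, hG₁, ⟨e₁⟩⟩ := ModDesc.exists_descend Z cZ hcZ top (show cZ.pt.Modules from L)
    (LocFree8.isFP_of_isFinLocFree _ (Euler.isFinLocFree_of_isInvertible hL))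
  haveI := hG₁.1
  obtain ⟨j₂, χ, hinv⟩ := exists_stage_isInvertible hcZ j₁ G₁
    (QCoh.isFinitePresentation_of_isFiniteType G₁ hG₁.2) (ParaPair.isInvertible_of_iso e₁ hL)
  let L₂ := (Scheme.Modules.pullback (Z.map χ)).obj G₁
  let e₂ : (Scheme.Modules.pullback (cZ.π.app j₂)).obj L₂ ≅ L :=
    (Scheme.Modules.pullbackComp (cZ.π.app j₂) (Z.map χ)).app G₁ ≪≫
      (Scheme.Modules.pullbackCongr (cZ.w χ)).app G₁ ≪≫ e₁
  -- the fibres
  let x := (Spec (CommRingCat.of A)).fromSpecResidueField p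
  let f₀ : cZ.pt ⟶ (fgCone A).pt := f
  let Y := fibSys h hn (show _ ⟶ (fgCone A).pt from x)
  let cY := fibCone h hn (show _ ⟶ (fgCone A).pt from x) f₀ hf
  have hcY : IsLimit cY := isLimitFibCone h hn _ f₀ hf hc hcZ
  haveI : ∀ j, CompactSpace (Y.obj j) := fun j => by
    haveI : QuasiCompact (pullback.snd (h j) (x ≫ (fgCone A).π.app j.left)) :=
      MorphismProperty.pullback_snd _ _ inferInstance
    exact QuasiCompact.compactSpace_of_compactSpace (pullback.snd (h j) (x ≫ (fgCone A).π.app j.left))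
  haveI : ∀ j, QuasiSeparatedSpace (Y.obj j) := fun j => by
    haveI : QuasiSeparated (pullback.snd (h j) (x ≫ (fgCone A).π.app j.left)) :=
      MorphismProperty.pullback_snd _ _ inferInstance
    exact quasiSeparatedSpace_of_quasiSeparated (pullback.snd (h j) (x ≫ (fgCone A).π.app j.left))
  haveI : ∀ (j k : Over l) (χ : j ⟶ k), IsAffineHom (Y.map χ) := fun j k χ => by
    haveI : ∀ j : Over l, IsAffineHom (pullback.fst (h j) (x ≫ (fgCone A).π.app j.left)) := fun j =>
      MorphismProperty.pullback_fst (P := @IsAffineHom) _ _ (isAffineHom_of_isAffine _)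
    haveI : IsAffineHom (Y.map χ ≫ pullback.fst (h k) (x ≫ (fgCone A).π.app k.left)) := by
      rw [show Y.map χ ≫ pullback.fst _ _ = pullback.fst _ _ ≫ Z.map χ from pullback.lift_fst _ _ _]
      infer_instance
    exact MorphismProperty.of_postcomp (W := @IsAffineHom) (W' := @IsSeparated) _
      (pullback.fst (h k) (x ≫ (fgCone A).π.app k.left)) inferInstance ‹_›
  let pY : Y.obj j₂ ⟶ Z.obj j₂ := pullback.fst _ _
  obtain ⟨j, ψ, hj⟩ := exists_stage_isAmple hcY j₂ (Ample.isInvertible_pullback pY hinv) (by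
    refine (Ample.isAmple_iff_of_iso (?_ : (Scheme.Modules.pullback (f.fiberι p)).obj L ≅ _)).1 hp
    exact (Scheme.Modules.pullback (f.fiberι p)).mapIso e₂.symm ≪≫
      (Scheme.Modules.pullbackComp (f.fiberι p) (cZ.π.app j₂)).app L₂ ≪≫
      (Scheme.Modules.pullbackCongr (pullback.lift_fst _ _ _).symm).app L₂ ≪≫
      ((Scheme.Modules.pullbackComp (cY.π.app j₂) pY).app L₂).symm)
  let L₃ := (Scheme.Modules.pullback (Z.map ψ)).obj L₂
  let pj : Y.obj j ⟶ Z.obj j := pullback.fst _ _
  have hj' : CohB1.IsAmple ((Scheme.Modules.pullback pj).obj L₃) :=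
    (Ample.isAmple_iff_of_iso ((Scheme.Modules.pullbackComp (Y.map ψ) pY).app L₂ ≪≫
      (Scheme.Modules.pullbackCongr (pullback.lift_fst _ _ _)).app L₂ ≪≫
      ((Scheme.Modules.pullbackComp pj (Z.map ψ)).app L₂).symm)).1 hj
  -- descent along the extension of residue fields
  let s : Spec (CommRingCat.of A) ⟶ (fgDiagram A).obj j.left := (fgCone A).π.app j.left
  haveI : IsAffineHom (cZ.π.app j) := isAffineHom_π_app Z cZ hcZ j
  refine ⟨(fgDiagram A).obj j.left, Z.obj j, h j, cZ.π.app j, s, L₃, inferInstance, hh j, inferInstance, hf j,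
    Ample.isInvertible_pullback _ hinv, ⟨(Scheme.Modules.pullbackComp (cZ.π.app j) (Z.map ψ)).app L₂ ≪≫
      (Scheme.Modules.pullbackCongr (cZ.w ψ)).app L₂ ≪≫ e₂⟩, ?_⟩
  let ρ := Spec.map (s.residueFieldMap p)
  have hρ : ρ ≫ ((fgDiagram A).obj j.left).fromSpecResidueField (s p) = x ≫ s :=
    Scheme.Hom.SpecMap_residueFieldMap_fromSpecResidueField s p
  let t : Y.obj j ⟶ (h j).fiber (s p) :=
    pullback.lift pj (pullback.snd _ _ ≫ ρ) (by rw [Category.assoc, hρ]; exact pullback.condition)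
  have sq : IsPullback t (pullback.snd (h j) (x ≫ s)) ((h j).fiberToSpecResidueField (s p)) ρ := by
    refine IsPullback.of_right ?_ (pullback.lift_snd _ _ _) (IsPullback.of_hasPullback _ _)
    rw [pullback.lift_fst, hρ]
    exact IsPullback.of_hasPullback (h j) (x ≫ s)
  haveI : Flat ρ := by
    rw [HasRingHomProperty.Spec_iff (P := @Flat)]
    letI := (s.residueFieldMap p).hom.toAlgebra
    exact RingHom.flat_algebraMap_iff.2 inferInstance
  haveI : Surjective ρ := ⟨fun z => ⟨default, Subsingleton.elim _ _⟩⟩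
  haveI : QuasiCompact ((h j).fiberToSpecResidueField (s p)) := MorphismProperty.pullback_snd _ _ inferInstance
  refine Ample.isAmple_of_isAmple_pullback sq (Ample.isInvertible_pullback _ (Ample.isInvertible_pullback _ hinv)) ?_
  rw [Ample.isAmple_pullback_comp_iff, show t ≫ (h j).fiberι (s p) = pj from pullback.lift_fst _ _ _]
  exact hj'

variable {X Y : Scheme.{u}} (f : X ⟶ Y) [IsProper f]

/-- **Ampleness on a fibre of a proper morphism spreads to a neighbourhood.** -/
theorem exists_isAmple_nhd' {L : X.Modules} (hL : PicF.IsInvertible L) (y : Y)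
    (hy : CohB1.IsAmple ((Scheme.Modules.pullback (f.fiberι y)).obj L)) :
    ∃ V : Y.Opens, y ∈ V ∧
      ∀ U : X.Opens, IsCompact (U : Set X) → U ≤ f ⁻¹ᵁ V → CohB1.IsAmple (L.restrict U.ι) := by
  obtain ⟨_, ⟨W, hW, rfl⟩, hyW, -⟩ :=
    Y.isBasis_affineOpens.exists_subset_of_mem_open (Set.mem_univ y) isOpen_univ
  let A := Γ(Y, W)
  let p : Spec A := hW.primeIdealOf ⟨y, hyW⟩
  let k : pullback f hW.fromSpec ⟶ X := pullback.fst _ _
  let f₁ : pullback f hW.fromSpec ⟶ Spec (CommRingCat.of A) := pullback.snd _ _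
  have hpy : hW.fromSpec p = y := hW.fromSpec_primeIdealOf ⟨y, hyW⟩
  have hy' : CohB1.IsAmple ((Scheme.Modules.pullback (f₁.fiberι p)).obj ((Scheme.Modules.pullback k).obj L)) := by
    rw [← hpy] at hy
    let ρ := Spec.map (hW.fromSpec.residueFieldMap p)
    have hρ : ρ ≫ Y.fromSpecResidueField (hW.fromSpec p) = (Spec A).fromSpecResidueField p ≫ hW.fromSpec :=
      Scheme.Hom.SpecMap_residueFieldMap_fromSpecResidueField hW.fromSpec p
    have hw : (f₁.fiberι p ≫ k) ≫ f =
        (f₁.fiberToSpecResidueField p ≫ ρ) ≫ Y.fromSpecResidueField (hW.fromSpec p) := by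
      rw [Category.assoc, Category.assoc, hρ, show k ≫ f = f₁ ≫ hW.fromSpec from pullback.condition]
      exact (reassoc_of% (Scheme.Hom.fiber_fac f₁ p)) hW.fromSpec
    let t : f₁.fiber p ⟶ f.fiber (hW.fromSpec p) :=
      pullback.lift (f₁.fiberι p ≫ k) (f₁.fiberToSpecResidueField p ≫ ρ) hw
    haveI : IsAffineHom t := by
      have sq : IsPullback t (f₁.fiberToSpecResidueField p) (f.fiberToSpecResidueField (hW.fromSpec p)) ρ := by
        refine IsPullback.of_right ?_ (pullback.lift_snd _ _ hw) (IsPullback.of_hasPullback _ _)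
        rw [pullback.lift_fst, hρ]
        exact (IsPullback.of_hasPullback f₁ ((Spec A).fromSpecResidueField p)).paste_horiz
          (IsPullback.of_hasPullback f hW.fromSpec)
      exact MorphismProperty.of_isPullback (P := @IsAffineHom) sq.flip (isAffineHom_of_isAffine _)
    have h1 := Ample.isAmple_pullback_of_isAffineHom t hy
    rw [Ample.isAmple_pullback_comp_iff] at h1 ⊢
    rw [show t ≫ f.fiberι (hW.fromSpec p) = f₁.fiberι p ≫ k from pullback.lift_fst _ _ hw] at h1
    exact h1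
  obtain ⟨S₀, Z, h, π, s, L₀, hS₀, hh₀, hπaff, hπ, hL₀, ⟨e⟩, hamp⟩ :=
    exists_affine_model_ample_fibre A f₁ (Ample.isInvertible_pullback k hL) p hy'
  haveI := hS₀
  haveI := hh₀
  haveI := hπaff
  obtain ⟨V₀, hpV, hV₀, hV⟩ := exists_isAmple_nhd h hL₀ (s p) hamp
  haveI : IsAffineHom (π ∣_ (h ⁻¹ᵁ V₀)) := IsZariskiLocalAtTarget.restrict hπaff _
  let U₀ : Z.Opens := h ⁻¹ᵁ V₀
  have hU₀ : IsCompact (U₀ : Set Z) := QuasiCompact.isCompact_preimage _ V₀.2 hV₀.isCompact
  have hA₀ := (Ample.isAmple_restrict_iff U₀.ι L₀).1 (hV U₀ hU₀ le_rfl)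
  let U₁ : (pullback f hW.fromSpec).Opens := π ⁻¹ᵁ U₀
  have h1 := Ample.isAmple_pullback_of_isAffineHom (π ∣_ U₀) hA₀
  rw [Ample.isAmple_pullback_comp_iff, morphismRestrict_ι, ← Ample.isAmple_pullback_comp_iff] at h1
  replace h1 := (Ample.isAmple_iff_of_iso ((Scheme.Modules.pullback U₁.ι).mapIso e)).1 h1
  rw [Ample.isAmple_pullback_comp_iff] at h1
  refine ⟨hW.fromSpec ''ᵁ (s ⁻¹ᵁ V₀), ⟨p, hpV, hpy⟩, fun U hUc hU => ?_⟩
  haveI : CompactSpace (U : Scheme.{u}) := isCompact_iff_compactSpace.mp hUc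
  rw [Ample.isAmple_restrict_iff]
  refine Ample.isAmple_pullback_of_range_le U.ι (U₁.ι ≫ k) ?_ h1
  rw [U.range_ι]
  intro x hx
  obtain ⟨q, hq, hqx⟩ := hU hx
  obtain ⟨z, hzk, hzq⟩ := Scheme.Pullback.exists_preimage_pullback (f := f) (g := hW.fromSpec) x q hqx.symm
  refine ⟨⟨z, ?_⟩, ?_⟩
  · show h (π z) ∈ V₀
    rw [← Scheme.Hom.comp_apply, hπ, Scheme.Hom.comp_apply]
    show s (f₁ z) ∈ V₀
    rw [show f₁ z = q from hzq]
    exact hq
  · rw [Scheme.Hom.comp_apply]
    exact hzk

end GrothLib.AmpSpread10
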