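import Groth.Agent.Lib.AmpSpread10.RelCrit
import Groth.Agent.Lib.Constr.Scheme
import Groth.Agent.Lib.DiagGrp.KernelFP

/-!
# The locus of fibres on which a module is relatively ample
-/

set_option autoImplicit false
set_option linter.all false
set_option backward.isDefEq.respectTransparency false
set_option maxHeartbeats 2000000

universe u

open CategoryTheory CategoryTheory.Limits AlgebraicGeometry Opposite TopologicalSpace Topology
open scoped Set.Notation

noncomputable section

namespace GrothLib.AmpSpread10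

/-- Ampleness on fibres does not depend on the base change. -/
theorem isAmple_fibre_iff {X Y X' Y' : Scheme.{u}} {f : X ⟶ Y} {g : Y' ⟶ Y} {f' : X' ⟶ Y'} {g' : X' ⟶ X}
    (H : IsPullback g' f' f g) [QuasiCompact f] {L : X.Modules} (hL : PicF.IsInvertible L) (y' : Y') :
    CohB1.IsAmple ((Scheme.Modules.pullback (f'.fiberι y')).obj ((Scheme.Modules.pullback g').obj L)) ↔
      CohB1.IsAmple ((Scheme.Modules.pullback (f.fiberι (g y'))).obj L) := by
  let ρ := Spec.map (g.residueFieldMap y')
  have hρ : ρ ≫ Y.fromSpecResidueField (g y') = Y'.fromSpecResidueField y' ≫ g :=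
    Scheme.Hom.SpecMap_residueFieldMap_fromSpecResidueField g y'
  have hw : (f'.fiberι y' ≫ g') ≫ f = (f'.fiberToSpecResidueField y' ≫ ρ) ≫ Y.fromSpecResidueField (g y') := by
    rw [Category.assoc, Category.assoc, hρ, H.w]
    exact (reassoc_of% (Scheme.Hom.fiber_fac f' y')) g
  let t : f'.fiber y' ⟶ f.fiber (g y') := pullback.lift _ _ hw
  have sq : IsPullback t (f'.fiberToSpecResidueField y') (f.fiberToSpecResidueField (g y')) ρ := by
    refine IsPullback.of_right ?_ (pullback.lift_snd _ _ hw) (IsPullback.of_hasPullback _ _)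
    rw [pullback.lift_fst, hρ]
    exact (IsPullback.of_hasPullback f' (Y'.fromSpecResidueField y')).paste_horiz H
  haveI : IsAffineHom t := MorphismProperty.of_isPullback (P := @IsAffineHom) sq.flip (isAffineHom_of_isAffine _)
  haveI : Flat ρ := by
    rw [HasRingHomProperty.Spec_iff (P := @Flat)]
    letI := (g.residueFieldMap y').hom.toAlgebra
    exact RingHom.flat_algebraMap_iff.2 inferInstance
  haveI : Surjective ρ := ⟨fun z => ⟨default, Subsingleton.elim _ _⟩⟩
  haveI : QuasiCompact (f.fiberToSpecResidueField (g y')) := MorphismProperty.pullback_snd _ _ inferInstance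
  rw [Ample.isAmple_pullback_comp_iff, show f'.fiberι y' ≫ g' = t ≫ f.fiberι (g y') from (pullback.lift_fst _ _ hw).symm,
    ← Ample.isAmple_pullback_comp_iff]
  exact ⟨fun h => Ample.isAmple_of_isAmple_pullback sq (Ample.isInvertible_pullback _ hL) h,
    fun h => Ample.isAmple_pullback_of_isAffineHom t h⟩

variable {X Y : Scheme.{u}} (f : X ⟶ Y) [IsProper f]

/-- The points with ample fibre form an open set. -/
theorem isOpen_fibre_isAmple {L : X.Modules} (hL : PicF.IsInvertible L) :
    IsOpen {y : Y | CohB1.IsAmple ((Scheme.Modules.pullback (f.fiberι y)).obj L)} := by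
  refine isOpen_iff_forall_mem_open.2 fun y hy => ?_
  obtain ⟨V, hyV, hV⟩ := exists_isRelAmple_nhd f hL y hy
  refine ⟨V, fun z hz => ?_, V.2, hyV⟩
  have h1 := (isRelAmple_iff_forall_fibre (f ∣_ V)
    (ParaPair.isInvertible_of_iso ((Scheme.Modules.restrictFunctorIsoPullback _).app L)
      (Ample.isInvertible_pullback _ hL))).1 hV ⟨z, hz⟩
  have h2 := (Ample.isAmple_iff_of_iso ((Scheme.Modules.pullback ((f ∣_ V).fiberι ⟨z, hz⟩)).mapIso
    ((Scheme.Modules.restrictFunctorIsoPullback _).app L))).1 h1
  exact (isAmple_fibre_iff (isPullback_morphismRestrict f V).flip hL ⟨z, hz⟩).1 h2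

/-- The points with ample fibre form a locally constructible set. -/
theorem isLocallyConstructible_fibre_isAmple [LocallyOfFinitePresentation f] {L : X.Modules}
    (hL : PicF.IsInvertible L) :
    IsLocallyConstructible {y : Y | CohB1.IsAmple ((Scheme.Modules.pullback (f.fiberι y)).obj L)} := by
  intro y
  obtain ⟨_, ⟨W, hW, rfl⟩, hyW, -⟩ :=
    Y.isBasis_affineOpens.exists_subset_of_mem_open (Set.mem_univ y) isOpen_univ
  let k : pullback f hW.fromSpec ⟶ X := pullback.fst _ _
  let f₁ : pullback f hW.fromSpec ⟶ Spec (CommRingCat.of Γ(Y, W)) := pullback.snd _ _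
  haveI : LocallyOfFinitePresentation f₁ := MorphismProperty.pullback_snd _ _ inferInstance
  obtain ⟨A₀, hA₀, X₀, f₀, g, L₀, hf₀, hL₀, H₀, ⟨e⟩⟩ :=
    exists_noetherian_model_invertible Γ(Y, W) f₁ (Ample.isInvertible_pullback k hL)
  haveI := hA₀
  haveI := hf₀
  let s := Spec.map (CommRingCat.ofHom (algebraMap A₀ Γ(Y, W)))
  have hset : hW.fromSpec ⁻¹' {y : Y | CohB1.IsAmple ((Scheme.Modules.pullback (f.fiberι y)).obj L)} =
      s ⁻¹' {q | CohB1.IsAmple ((Scheme.Modules.pullback (f₀.fiberι q)).obj L₀)} := by
    ext q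
    simp only [Set.mem_preimage, Set.mem_setOf_eq]
    rw [← isAmple_fibre_iff (IsPullback.of_hasPullback f hW.fromSpec) hL q, ← isAmple_fibre_iff H₀ hL₀ q]
    exact (Ample.isAmple_iff_of_iso ((Scheme.Modules.pullback (f₁.fiberι q)).mapIso e)).symm
  have h0 : IsLocallyConstructible {q | CohB1.IsAmple ((Scheme.Modules.pullback (f₀.fiberι q)).obj L₀)} :=
    IsRetrocompact.isLocallyConstructible (isOpen_fibre_isAmple f₀ hL₀)
      (fun U hU _ => NoetherianSpace.isCompact _)
  have h1 := Constr.isLocallyConstructible_preimage hW.isoSpec.hom (hset ▸ Constr.isLocallyConstructible_preimage s h0)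
  haveI : CompactSpace (W : Scheme.{u}) := isCompact_iff_compactSpace.mp hW.isCompact
  haveI : QuasiSeparatedSpace (W : Scheme.{u}) :=
    (isQuasiSeparated_iff_quasiSeparatedSpace _ W.2).mp hW.isQuasiSeparated
  refine ⟨W, W.2.mem_nhds hyW, W.2, ?_⟩
  have h2 : (W : Set Y) ↓∩ {y : Y | CohB1.IsAmple ((Scheme.Modules.pullback (f.fiberι y)).obj L)} =
      hW.isoSpec.hom ⁻¹' (hW.fromSpec ⁻¹' {y : Y | CohB1.IsAmple ((Scheme.Modules.pullback (f.fiberι y)).obj L)}) := by
    ext z
    show _ ↔ CohB1.IsAmple ((Scheme.Modules.pullback (f.fiberι (hW.fromSpec (hW.isoSpec.hom z)))).obj L)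
    rw [← Scheme.Hom.comp_apply, IsAffineOpen.isoSpec_hom_fromSpec]
    rfl
  rw [h2]
  exact h1.isConstructible

/-- **The locus of fibres on which a module is relatively ample is locally constructible.** -/
theorem isLocallyConstructible_fibre_isRelAmple {S : Scheme.{u}} (g : Y ⟶ S) [LocallyOfFinitePresentation g]
    [QuasiCompact g] [LocallyOfFinitePresentation (f ≫ g)] {L : X.Modules} (hL : PicF.IsInvertible L) :
    IsLocallyConstructible {s : S |
      RelAmple.IsRelAmple
        (pullback.lift (pullback.fst (f ≫ g) (S.fromSpecResidueField s) ≫ f) (pullback.snd (f ≫ g) (S.fromSpecResidueField s))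
          ((Category.assoc _ _ _).trans pullback.condition) :
          pullback (f ≫ g) (S.fromSpecResidueField s) ⟶ pullback g (S.fromSpecResidueField s))
        ((Scheme.Modules.pullback (pullback.fst (f ≫ g) (S.fromSpecResidueField s))).obj L)} := by
  haveI : LocallyOfFinitePresentation f := DiagGrp.lfp_of_comp_of_lft f g inferInstance inferInstance
  have h := Constr.isLocallyConstructible_compl (g.isLocallyConstructible_image
    (Constr.isLocallyConstructible_compl (isLocallyConstructible_fibre_isAmple f hL)))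
  convert h using 1
  ext s
  let x := S.fromSpecResidueField s
  let pr := pullback.fst g x
  let fs : pullback (f ≫ g) x ⟶ pullback g x :=
    pullback.lift (pullback.fst (f ≫ g) x ≫ f) (pullback.snd (f ≫ g) x) ((Category.assoc _ _ _).trans pullback.condition)
  have H : IsPullback (pullback.fst (f ≫ g) x) fs f pr := by
    refine (IsPullback.of_bot ?_ (pullback.lift_fst _ _ _).symm (IsPullback.of_hasPullback g x))
    rw [pullback.lift_snd]
    exact IsPullback.of_hasPullback (f ≫ g) x
  haveI : IsProper fs := MorphismProperty.of_isPullback H inferInstance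
  show RelAmple.IsRelAmple fs _ ↔ _
  rw [isRelAmple_iff_forall_fibre fs (Ample.isInvertible_pullback _ hL)]
  simp only [Set.mem_compl_iff, Set.mem_image, Set.mem_setOf_eq, not_exists, not_and]
  constructor
  · intro hall z hz hgz
    obtain ⟨z', hz'⟩ : z ∈ Set.range pr := by
      rw [Scheme.Pullback.range_fst, Set.mem_preimage, Scheme.range_fromSpecResidueField, Set.mem_singleton_iff]
      exact hgz
    exact hz (hz' ▸ (isAmple_fibre_iff H hL z').1 (hall z'))
  · intro hall z'
    by_contra hz
    refine hall (pr z') (fun hh => hz ((isAmple_fibre_iff H hL z').2 hh)) ?_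
    rw [← Scheme.Hom.comp_apply, pullback.condition, Scheme.Hom.comp_apply]
    exact Set.mem_singleton_iff.1 (by rw [← Scheme.range_fromSpecResidueField]; exact ⟨_, rfl⟩)

end GrothLib.AmpSpread10
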