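import Groth.Agent.Lib.AmpSpread10.QProjFibre
import Groth.Agent.Lib.Ample.QuasiProj
import Groth.Agent.Lib.AmpleDesc.Rel
import Mathlib.AlgebraicGeometry.Morphisms.LocalFlatDescent

/-!
# Quasi-projectivity over a field descends along extensions of fields
-/

set_option autoImplicit false
set_option linter.all false
set_option backward.isDefEq.respectTransparency false
set_option maxHeartbeats 800000

universe u

open CategoryTheory CategoryTheory.Limits AlgebraicGeometry

noncomputable section

namespace GrothLib.AmpSpread10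

variable {k K : Type u} [Field k] [Field K] {X : Scheme.{u}}

theorem fpqcCov_of_field (ρ : Spec (CommRingCat.of K) ⟶ Spec (CommRingCat.of k)) : EtSite.fpqcCov ρ := by
  refine ⟨⟨⟨fun y => ⟨IsLocalRing.closedPoint K,
    (inferInstance : Subsingleton (PrimeSpectrum k)).elim _ y⟩⟩, ?_⟩, inferInstance⟩
  obtain ⟨φ, hφ⟩ := Spec.map_surjective ρ
  rw [← hφ, HasRingHomProperty.Spec_iff (P := @Flat)]
  letI := φ.hom.toAlgebra
  exact RingHom.flat_algebraMap_iff.2 inferInstance

theorem descends_field {P : MorphismProperty Scheme.{u}} [P.DescendsAlong EtSite.fpqcCov]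
    (ρ : Spec (CommRingCat.of K) ⟶ Spec (CommRingCat.of k)) (p : X ⟶ Spec (CommRingCat.of k))
    (h : P (pullback.snd p ρ)) : P p :=
  MorphismProperty.of_isPullback_of_descendsAlong (Q := EtSite.fpqcCov)
    (IsPullback.of_hasPullback p ρ).flip (fpqcCov_of_field ρ) h

/-- A scheme over a field which becomes quasi-projective over an extension field is quasi-projective. -/
theorem isQuasiProjective_of_field (ρ : Spec (CommRingCat.of K) ⟶ Spec (CommRingCat.of k))
    (p : X ⟶ Spec (CommRingCat.of k)) (h : RelProj.IsQuasiProjective (pullback.snd p ρ)) :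
    RelProj.IsQuasiProjective p := by
  obtain ⟨hft, hqc, L, hL⟩ := h
  haveI : LocallyOfFiniteType p := descends_field (P := @LocallyOfFiniteType) ρ p hft
  haveI : QuasiCompact p := descends_field (P := @QuasiCompact) ρ p hqc
  haveI : LocallyOfFinitePresentation p := LocProp.locallyOfFinitePresentation_of_isLocallyNoetherian p
  haveI : IsLocallyNoetherian X := LocallyOfFiniteType.isLocallyNoetherian p
  haveI : QuasiSeparated p := inferInstance
  have sq : IsPullback ρ (𝟙 _) (𝟙 (Spec (CommRingCat.of k))) ρ := IsPullback.of_vert_isIso ⟨by simp⟩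
  obtain ⟨N, hN⟩ := hasRelAmple_of_field ρ p (𝟙 _) sq (IsPullback.of_hasPullback p ρ) ⟨L, hL⟩
  exact ⟨inferInstance, inferInstance, N, hN⟩

theorem exists_immersion_of_field (ρ : Spec (CommRingCat.of K) ⟶ Spec (CommRingCat.of k))
    (p : X ⟶ Spec (CommRingCat.of k)) {n : ℕ} (i : pullback p ρ ⟶ CohB1.ProjSpaceOver n (Spec (CommRingCat.of K)))
    [IsImmersion i] (hi : i ≫ CohB1.ProjSpaceOver.toBase n (Spec (CommRingCat.of K)) = pullback.snd p ρ) :
    ∃ (m : ℕ) (j : X ⟶ CohB1.ProjSpaceOver m (Spec (CommRingCat.of k))),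
      IsImmersion j ∧ j ≫ CohB1.ProjSpaceOver.toBase m (Spec (CommRingCat.of k)) = p := by
  haveI := Chow.isProper_toBase n (Spec (CommRingCat.of K))
  haveI : IsLocallyNoetherian (CohB1.ProjSpaceOver n (Spec (CommRingCat.of K))) :=
    LocallyOfFiniteType.isLocallyNoetherian (CohB1.ProjSpaceOver.toBase n (Spec (CommRingCat.of K)))
  haveI : LocallyOfFiniteType i := inferInstance
  haveI : CompactSpace (CohB1.ProjSpaceOver n (Spec (CommRingCat.of K))) :=
    QuasiCompact.compactSpace_of_compactSpace (CohB1.ProjSpaceOver.toBase n (Spec (CommRingCat.of K)))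
  haveI : IsNoetherian (CohB1.ProjSpaceOver n (Spec (CommRingCat.of K))) := {}
  haveI : QuasiCompact i :=
    ⟨fun U _ _ => i.isEmbedding.isInducing.isCompact_iff.mpr (TopologicalSpace.NoetherianSpace.isCompact _)⟩
  obtain ⟨h1, h2⟩ := Ample.locallyOfFiniteType_and_quasiCompact_of_immersion _ i hi
  obtain ⟨h3, h4, L, hL⟩ := isQuasiProjective_of_field ρ p (Ample.isQuasiProjective_of_isImmersion _ i hi)
  exact Ample.exists_immersion_of_isAmple p (Ample.isAmple_of_isRelAmple_top hL)

end GrothLib.AmpSpread10
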