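import Groth.Agent.Lib.AmpSpread10.Descend
import Groth.Agent.Lib.AmpSpread10.LimAmple
import Groth.Agent.Lib.AbsApprox.RelMain
import Groth.Agent.Lib.LimDesc.Basic
import Groth.Agent.Lib.NormAmple.Pushdown
import Groth.Agent.Lib.Ample.RelAmple
import Groth.Agent.S8878
import Groth.Agent.Lib.LocProp.Stalk
import Mathlib.AlgebraicGeometry.Morphisms.FlatRank

/-!
# Existence of an ample module descends along extensions of fields
-/

set_option autoImplicit false
set_option linter.all false
set_option backward.isDefEq.respectTransparency false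
set_option maxHeartbeats 2000000

universe u

open CategoryTheory CategoryTheory.Limits AlgebraicGeometry Opposite TopologicalSpace
open GrothLib.LimDesc

noncomputable section

namespace GrothLib.AmpSpread10

/-- An invertible module which is ample on the base change to a field extension gives an ample module. -/
theorem exists_isAmple_of_field {k K : Type u} [Field k] [Field K] (x₀ : Spec (CommRingCat.of K) ⟶ Spec (CommRingCat.of k))
    {X : Scheme.{u}} (f : X ⟶ Spec (CommRingCat.of k)) [QuasiCompact f] [QuasiSeparated f]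
    {L' : (pullback f x₀).Modules} (hL' : CohB1.IsAmple L') : ∃ L : X.Modules, CohB1.IsAmple L := by
  obtain ⟨I, _, _, _, D, π, hl, hD, hDa, -⟩ := AbsApprox.exists_rel_approx x₀
  let S := Spec (CommRingCat.of k)
  let D' := D ⋙ Over.forget S
  let cD := (Over.forget S).mapCone (Cone.mk (Over.mk x₀) π)
  have hcD : IsLimit cD := isLimitOfPreserves (Over.forget _) hl
  haveI : ∀ (i j : Iᵒᵖ) (a : i ⟶ j), IsAffineHom (D'.map a) := hDa
  obtain ⟨i₀⟩ : Nonempty Iᵒᵖ := inferInstance
  haveI : CompactSpace (D'.obj i₀) := (hD i₀).2.2.2.1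
  haveI : CompactSpace (D.obj i₀).left := (hD i₀).2.2.2.1
  haveI : QuasiSeparatedSpace (D'.obj i₀) := (hD i₀).2.2.2.2
  haveI : QuasiSeparatedSpace (D.obj i₀).left := (hD i₀).2.2.2.2
  let a := pullback.snd f (D.obj i₀).hom
  haveI : QuasiCompact a := MorphismProperty.pullback_snd _ _ inferInstance
  haveI : QuasiSeparated a := MorphismProperty.pullback_snd _ _ inferInstance
  haveI : CompactSpace (pullback f (D.obj i₀).hom : Scheme.{u}) := QuasiCompact.compactSpace_of_compactSpace a
  haveI : QuasiSeparatedSpace (pullback f (D.obj i₀).hom : Scheme.{u}) := quasiSeparatedSpace_of_quasiSeparated a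
  have hx : cD.π.app i₀ ≫ (D.obj i₀).hom = x₀ := Over.w (π.app i₀)
  let q : pullback f x₀ ⟶ pullback f (D.obj i₀).hom :=
    pullback.lift (pullback.fst f x₀) (pullback.snd f x₀ ≫ cD.π.app i₀)
      (by rw [Category.assoc, hx]; exact pullback.condition)
  have hq : IsPullback q (pullback.snd f x₀) a (cD.π.app i₀) := by
    refine IsPullback.of_right ?_ (pullback.lift_snd _ _ _) (IsPullback.of_hasPullback f (D.obj i₀).hom)
    rw [pullback.lift_fst, hx]
    exact IsPullback.of_hasPullback f x₀
  let G := diag D' i₀ a
  let cG := cone D' (c := cD) i₀ a hq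
  have hcG : IsLimit cG := isLimitCone D' (c := cD) i₀ a hq hcD
  haveI : ∀ (j l : Over i₀) (χ : j ⟶ l), IsAffineHom (G.map χ) :=
    fun j l χ => LimDesc.isAffineHom_map D' i₀ a χ
  haveI : ∀ j, CompactSpace (G.obj j) := fun j => LimDesc.compactSpace_obj D' i₀ a j
  haveI : ∀ j, QuasiSeparatedSpace (G.obj j) := fun j => LimDesc.quasiSeparatedSpace_obj D' i₀ a j
  obtain ⟨j, L₀, hL₀, ⟨e⟩⟩ := exists_stage_invertible hcG (L := L') hL'.1
  obtain ⟨m, χ, hm⟩ := exists_stage_isAmple hcG j hL₀ ((Ample.isAmple_iff_of_iso e).2 hL')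
  -- a closed point of the stage
  let y : D'.obj m.left ⟶ S := (D.obj m.left).hom
  haveI : LocallyOfFinitePresentation y := (hD m.left).1
  haveI : Nonempty ↥(D'.obj m.left) :=
    ⟨cD.π.app m.left (IsLocalRing.closedPoint K : Spec (CommRingCat.of K))⟩
  haveI : CompactSpace (D'.obj m.left) := (hD m.left).2.2.2.1
  obtain ⟨z, -, hz⟩ := (isClosed_univ : IsClosed (Set.univ : Set (D'.obj m.left))).exists_closed_singleton Set.univ_nonempty
  haveI : JacobsonSpace (D'.obj m.left) := LocallyOfFiniteType.jacobsonSpace y
  haveI := isClosed_singleton_iff_isClosedImmersion.mp hz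
  let xz := (D'.obj m.left).fromSpecResidueField z
  let t := xz ≫ y
  haveI : IsFinite t := isFinite_iff_locallyOfFiniteType_of_jacobsonSpace.mpr inferInstance
  haveI : Flat t := by
    obtain ⟨φ, hφ⟩ := Spec.map_surjective t
    rw [← hφ, HasRingHomProperty.Spec_iff (P := @Flat)]
    letI := φ.hom.toAlgebra
    exact RingHom.flat_algebraMap_iff.2 inferInstance
  haveI : LocallyOfFinitePresentation t := LocProp.locallyOfFinitePresentation_of_isLocallyNoetherian t
  -- the finite covering
  let p : pullback f t ⟶ X := pullback.fst f t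
  haveI : IsFinite p := MorphismProperty.pullback_fst (P := @IsFinite) _ _ inferInstance
  let s₀ : S := t (default : Spec ((D'.obj m.left).residueField z))
  have hdeg : Mor2.IsFinLocFreeOfDeg (t.finrank s₀) p :=
    ⟨⟨inferInstance, MorphismProperty.pullback_fst (P := @Flat) _ _ inferInstance,
      MorphismProperty.pullback_fst (P := @LocallyOfFinitePresentation) _ _ inferInstance⟩, fun w => by
      haveI : Subsingleton ↥S := inferInstanceAs (Subsingleton (PrimeSpectrum k))
      rw [Scheme.Hom.finrank_pullback_fst, Subsingleton.elim (f w) s₀]⟩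
  obtain ⟨ν⟩ := Groth.Agent.S8878.result p _ (Scheme.Hom.one_le_finrank_map t _) hdeg
  -- the ample module on the fibre of the stage
  let b : pullback f t ⟶ pullback f (D.obj i₀).hom :=
    pullback.lift (pullback.fst f t) (pullback.snd f t ≫ xz ≫ D'.map m.hom) (by
      rw [Category.assoc, Category.assoc, show D'.map m.hom ≫ (D.obj i₀).hom = y from Over.w (D.map m.hom)]
      exact pullback.condition)
  let r : pullback f t ⟶ G.obj m := pullback.lift b (pullback.snd f t ≫ xz) (by
    rw [pullback.lift_snd]; simp only [Category.assoc])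
  have hr : IsPullback r (pullback.snd f t) (pullback.snd a (D'.map m.hom)) xz := by
    refine IsPullback.of_right ?_ (pullback.lift_snd _ _ _) (IsPullback.of_hasPullback a (D'.map m.hom))
    rw [pullback.lift_fst]
    refine IsPullback.of_right ?_ (pullback.lift_snd _ _ _) (IsPullback.of_hasPullback f (D.obj i₀).hom)
    rw [pullback.lift_fst, Category.assoc, show D'.map m.hom ≫ (D.obj i₀).hom = y from Over.w (D.map m.hom)]
    exact IsPullback.of_hasPullback f t
  haveI : IsAffineHom r := MorphismProperty.of_isPullback (P := @IsAffineHom) hr.flip inferInstance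
  exact NormAmple.exists_ample_of_norm ν (Ample.isAmple_pullback_of_isAffineHom r hm)

end GrothLib.AmpSpread10
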