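import Groth.Agent.Lib.AmpSpread10.IndRelAmple
import Groth.Agent.Lib.DiagGrp.KernelFP

/-!
# Ind-constructibility of the fibres with a property which descends to stages
-/

set_option autoImplicit false
set_option linter.all false
set_option backward.isDefEq.respectTransparency false
set_option maxHeartbeats 2000000

universe u

open CategoryTheory CategoryTheory.Limits AlgebraicGeometry Opposite TopologicalSpace Topology
open GrothLib.LimDesc
open scoped Set.Notation

noncomputable section

namespace GrothLib.AmpSpread10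

/-- A property of morphisms descends to a stage of a limit of schemes. -/
def DescendsToStage (P : MorphismProperty Scheme.{u}) : Prop :=
  ∀ {I : Type u} [SmallCategory I] [IsCofiltered I] (D : I ⥤ Scheme.{u}) {c : Cone D} (_ : IsLimit c)
    [∀ (i j : I) (φ : i ⟶ j), IsAffineHom (D.map φ)] {i₀ : I} [CompactSpace (D.obj i₀)]
    [QuasiSeparatedSpace (D.obj i₀)]
    {X₀ Y₀ XT YT : Scheme.{u}} (u : X₀ ⟶ Y₀) (v : Y₀ ⟶ D.obj i₀) [QuasiCompact u] [QuasiSeparated u]
    [LocallyOfFinitePresentation u] [QuasiCompact v] [QuasiSeparated v]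
    [CompactSpace Y₀] [QuasiSeparatedSpace Y₀]
    {qY : YT ⟶ Y₀} {gT : YT ⟶ c.pt} {qX : XT ⟶ X₀} {fT : XT ⟶ YT}
    (_ : IsPullback qY gT v (c.π.app i₀)) (_ : IsPullback qX fT u qY), P fT →
    ∃ j : Over i₀, P ((mapNat D i₀ v (u ≫ v) u rfl).app j)

section Fibres

variable {X Y S : Scheme.{u}} (f : X ⟶ Y) (g : Y ⟶ S) (P : MorphismProperty Scheme.{u}) [P.IsStableUnderBaseChange]

/-- The property descends along extensions of the residue fields. -/
def DescendsAlongFieldExt : Prop :=
  ∀ (s : S) (K : Type u) [Field K] (ρ : Spec (CommRingCat.of K) ⟶ Spec (S.residueField s)) (A B : Scheme.{u})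
    (a : A ⟶ B) (p : A ⟶ pullback (f ≫ g) (S.fromSpecResidueField s))
    (w : B ⟶ pullback g (S.fromSpecResidueField s)) (q : B ⟶ Spec (CommRingCat.of K))
    (_ : IsPullback w q (pullback.snd g (S.fromSpecResidueField s)) ρ)
    (_ : IsPullback p a (bcMap f g (S.fromSpecResidueField s)) w),
    P a → P (bcMap f g (S.fromSpecResidueField s))

variable {f g P}

theorem descendsAlongFieldExt_of (f : X ⟶ Y) (g : Y ⟶ S) [QuasiCompact f]
    (h : ∀ {A B A' B' : Scheme.{u}} (a : A ⟶ B) (a' : A' ⟶ B') (p : A' ⟶ A) (w : B' ⟶ B),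
      [QuasiCompact a] → [Flat w] → [Surjective w] → [QuasiCompact w] → IsPullback p a' a w → P a' → P a) :
    DescendsAlongFieldExt f g P := by
  intro s K _ ρ A B a p w q hwq hsq ha
  haveI : Flat ρ := by
    obtain ⟨φ, hφ⟩ := Spec.map_surjective ρ
    rw [← hφ, HasRingHomProperty.Spec_iff (P := @Flat)]
    letI := φ.hom.toAlgebra
    exact RingHom.flat_algebraMap_iff.2 inferInstance
  haveI : Surjective ρ := ⟨fun y => ⟨IsLocalRing.closedPoint K,
    (inferInstance : Subsingleton (PrimeSpectrum (S.residueField s))).elim _ y⟩⟩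
  haveI : QuasiCompact ρ := inferInstance
  haveI : Flat w := MorphismProperty.of_isPullback (P := @Flat) hwq.flip ‹_›
  haveI : Surjective w := MorphismProperty.of_isPullback (P := @Surjective) hwq.flip ‹_›
  haveI : QuasiCompact w := MorphismProperty.of_isPullback (P := @QuasiCompact) hwq.flip ‹_›
  haveI : QuasiCompact (bcMap f g (S.fromSpecResidueField s)) :=
    MorphismProperty.of_isPullback (P := @QuasiCompact) (isPullback_bcMap f g _) inferInstance
  exact h (bcMap f g (S.fromSpecResidueField s)) a p w hsq ha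

variable (f g P)

theorem prop_fibre_of_baseChange (hfield : DescendsAlongFieldExt f g P)
    {T Yb Xb : Scheme.{u}} {b : T ⟶ S} {qY : Yb ⟶ Y} {vb : Yb ⟶ T} (hYb : IsPullback qY vb g b)
    {qX : Xb ⟶ X} {fb : Xb ⟶ Yb} (hXb : IsPullback qX fb f qY) (h : P fb) (z : T) :
    P (bcMap f g (S.fromSpecResidueField (b z))) := by
  let xz := T.fromSpecResidueField z
  let x := S.fromSpecResidueField (b z)
  let ρ := Spec.map (b.residueFieldMap z)
  have hρ : ρ ≫ x = xz ≫ b := Scheme.Hom.SpecMap_residueFieldMap_fromSpecResidueField b z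
  have hw : (pullback.fst vb xz ≫ qY) ≫ g = (pullback.snd vb xz ≫ ρ) ≫ x := by
    rw [Category.assoc, hYb.w, Category.assoc, hρ, pullback.condition_assoc]
  let w : pullback vb xz ⟶ pullback g x := pullback.lift _ _ hw
  have hsq : IsPullback w (pullback.snd vb xz) (pullback.snd g x) ρ := by
    refine IsPullback.of_right ?_ (pullback.lift_snd _ _ hw) (IsPullback.of_hasPullback g x)
    rw [pullback.lift_fst, hρ]
    exact (IsPullback.of_hasPullback vb xz).paste_horiz hYb
  let qz := pullback.fst vb xz
  let fz := pullback.snd fb qz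
  have h1 : P fz := MorphismProperty.of_isPullback (IsPullback.of_hasPullback fb qz) h
  have Hx := isPullback_bcMap f g x
  have hbig : IsPullback (pullback.fst fb qz ≫ qX) fz f (w ≫ pullback.fst g x) := by
    rw [pullback.lift_fst]
    exact (IsPullback.of_hasPullback fb qz).paste_horiz hXb
  let p := Hx.lift (pullback.fst fb qz ≫ qX) (fz ≫ w) (hbig.w.trans (Category.assoc _ _ _).symm)
  have sq : IsPullback p fz (bcMap f g x) w := by
    refine IsPullback.of_right ?_ (Hx.lift_snd _ _ _) Hx
    rw [Hx.lift_fst]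
    exact hbig
  exact hfield (b z) (T.residueField z) ρ _ _ fz p w (pullback.snd vb xz) hsq sq h1

/-- **A property which descends to stages and along field extensions has ind-constructible fibre loci.** -/
theorem isIndConstructible_fibre [QuasiCompact g] [QuasiSeparated g] [QuasiCompact f] [QuasiSeparated f]
    [LocallyOfFinitePresentation f] (hstage : DescendsToStage P) (hfield : DescendsAlongFieldExt f g P) :
    ProCons.IsIndConstructible {s : S | P (bcMap f g (S.fromSpecResidueField s))} := by
  refine Constr.isIndConstructible_of_pieces fun s hs => ?_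
  obtain ⟨_, ⟨V, hV, rfl⟩, hsV, -⟩ :=
    S.isBasis_affineOpens.exists_subset_of_mem_open (Set.mem_univ s) isOpen_univ
  replace hV : IsAffineOpen V := hV
  have hr : Set.range (S.fromSpecResidueField s) ⊆ Set.range hV.fromSpec := by
    rw [Scheme.range_fromSpecResidueField, hV.range_fromSpec]
    exact Set.singleton_subset_iff.2 hsV
  let x₀ := IsOpenImmersion.lift hV.fromSpec (S.fromSpecResidueField s) hr
  obtain ⟨I, _, _, _, D, π, hl, hD, hDa, -⟩ := AbsApprox.exists_rel_approx x₀
  let D' := D ⋙ Over.forget (Spec Γ(S, V))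
  let cD := (Over.forget (Spec Γ(S, V))).mapCone (Cone.mk (Over.mk x₀) π)
  have hcD : IsLimit cD := isLimitOfPreserves (Over.forget _) hl
  haveI : ∀ (i j : Iᵒᵖ) (a : i ⟶ j), IsAffineHom (D'.map a) := hDa
  obtain ⟨i₀⟩ : Nonempty Iᵒᵖ := inferInstance
  let b : D'.obj i₀ ⟶ S := (D.obj i₀).hom ≫ hV.fromSpec
  haveI : CompactSpace (D'.obj i₀) := (hD i₀).2.2.2.1
  haveI : QuasiSeparatedSpace (D'.obj i₀) := (hD i₀).2.2.2.2
  let v : pullback g b ⟶ D'.obj i₀ := pullback.snd g b
  haveI : QuasiCompact v := MorphismProperty.pullback_snd _ _ inferInstance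
  haveI : QuasiSeparated v := MorphismProperty.pullback_snd _ _ inferInstance
  haveI : CompactSpace (pullback g b : Scheme.{u}) := QuasiCompact.compactSpace_of_compactSpace v
  haveI : QuasiSeparatedSpace (pullback g b : Scheme.{u}) := quasiSeparatedSpace_of_quasiSeparated v
  let u := bcMap f g b
  have Hu := isPullback_bcMap f g b
  haveI : QuasiCompact u := MorphismProperty.of_isPullback Hu inferInstance
  haveI : QuasiSeparated u := MorphismProperty.of_isPullback Hu inferInstance
  haveI : LocallyOfFinitePresentation u := MorphismProperty.of_isPullback (P := @LocallyOfFinitePresentation) Hu inferInstance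
  let x := S.fromSpecResidueField s
  have hxb : cD.π.app i₀ ≫ b = x := by
    show (π.app i₀).left ≫ (D.obj i₀).hom ≫ hV.fromSpec = x
    rw [← Category.assoc, Over.w (π.app i₀)]
    exact IsOpenImmersion.lift_fac _ _ _
  let qY : pullback g x ⟶ pullback g b :=
    pullback.lift (pullback.fst g x) (pullback.snd g x ≫ cD.π.app i₀) (by rw [Category.assoc, hxb]; exact pullback.condition)
  have hY : IsPullback qY (pullback.snd g x) v (cD.π.app i₀) := by
    refine IsPullback.of_right ?_ (pullback.lift_snd _ _ _) (IsPullback.of_hasPullback g b)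
    rw [pullback.lift_fst, hxb]
    exact IsPullback.of_hasPullback g x
  have Hx := isPullback_bcMap f g x
  let qX := Hu.lift (pullback.fst (f ≫ g) x) (bcMap f g x ≫ qY) (by
    rw [Category.assoc, show qY ≫ pullback.fst g b = pullback.fst g x from pullback.lift_fst _ _ _]
    exact Hx.w)
  have hX : IsPullback qX (bcMap f g x) u qY := by
    refine IsPullback.of_right ?_ (Hu.lift_snd _ _ _) Hu
    rw [Hu.lift_fst, show qY ≫ pullback.fst g b = pullback.fst g x from pullback.lift_fst _ _ _]
    exact Hx
  obtain ⟨j, hj⟩ := hstage D' hcD u v hY hX hs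
  let hj' := D.obj j.left
  haveI : LocallyOfFinitePresentation hj'.hom := (hD j.left).1
  haveI : QuasiCompact hj'.hom := (hD j.left).2.1
  have hb' : D'.map j.hom ≫ b = hj'.hom ≫ hV.fromSpec := by
    show (D.map j.hom).left ≫ (D.obj i₀).hom ≫ _ = _
    rw [← Category.assoc, Over.w (D.map j.hom)]
  refine ⟨V, V.2, hsV, Set.range (D'.map j.hom ≫ b), ⟨cD.π.app j.left (default : Spec (S.residueField s)), ?_⟩, ?_, ?_⟩
  · rw [← Scheme.Hom.comp_apply, ← Category.assoc, cD.w, hxb]
    exact Set.mem_singleton_iff.1 (by rw [← Scheme.range_fromSpecResidueField]; exact ⟨_, rfl⟩)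
  · rintro _ ⟨z, rfl⟩
    exact prop_fibre_of_baseChange f g P hfield
      ((IsPullback.of_hasPullback v (D'.map j.hom)).paste_horiz (IsPullback.of_hasPullback g b))
      ((LimDesc.isPullback_mapNat D' i₀ v (u ≫ v) u rfl j).paste_horiz Hu) hj z
  · haveI : CompactSpace (V : Scheme.{u}) := isCompact_iff_compactSpace.mp hV.isCompact
    have h1 := hj'.hom.isLocallyConstructible_image IsLocallyConstructible.univ
    rw [Set.image_univ] at h1
    have h2 := Constr.isLocallyConstructible_preimage hV.isoSpec.hom h1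
    have e : (Subtype.val ⁻¹' Set.range (D'.map j.hom ≫ b) : Set V) = hV.isoSpec.hom ⁻¹' Set.range hj'.hom := by
      ext w
      rw [hb']
      constructor
      · rintro ⟨z, hz⟩
        refine ⟨z, hV.fromSpec.isOpenEmbedding.injective ?_⟩
        exact hz.trans (by rw [← Scheme.Hom.comp_apply, IsAffineOpen.isoSpec_hom_fromSpec]; rfl)
      · rintro ⟨z, hz⟩
        refine ⟨z, ?_⟩
        exact (congrArg hV.fromSpec hz).trans (by rw [← Scheme.Hom.comp_apply, IsAffineOpen.isoSpec_hom_fromSpec]; rfl)
    exact (congrArg IsLocallyConstructible e).mpr h2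

end Fibres

end GrothLib.AmpSpread10
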