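import Groth.Agent.Lib.AmpSpread10.FibreLocus
import Groth.Agent.Lib.AbsApprox.RelMain
import Groth.Agent.Lib.AmpleDesc.Rel
import Groth.Agent.Lib.RelProjK.Amp
import Groth.Agent.S2332

/-!
# The locus of fibres on which a module is relatively ample is ind-constructible
-/

set_option autoImplicit false
set_option linter.all false
set_option backward.isDefEq.respectTransparency false
set_option maxHeartbeats 2000000

universe u

open CategoryTheory CategoryTheory.Limits AlgebraicGeometry Opposite TopologicalSpace Topology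
open GrothLib.LimDesc
open scoped Set.Notation

noncomputable section

namespace GrothLib.AmpSpread10

/-- Relative ampleness is stable under base change, for any pullback square. -/
theorem isRelAmple_of_square {X Y X' Y' : Scheme.{u}} {f : X ⟶ Y} {g : Y' ⟶ Y} {f' : X' ⟶ Y'} {g' : X' ⟶ X}
    (H : IsPullback g' f' f g) [QuasiCompact f] {L : X.Modules} (hL : RelAmple.IsRelAmple f L) :
    RelAmple.IsRelAmple f' ((Scheme.Modules.pullback g').obj L) := by
  have h := Groth.Agent.S2332.result f g L hL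
  let e := H.isoPullback
  have sq : IsPullback e.inv (pullback.snd f g) f' (𝟙 Y') := by
    refine IsPullback.of_horiz_isIso ⟨?_⟩
    rw [Category.comp_id, IsPullback.isoPullback_inv_snd]
  refine Ample.isRelAmple_of_isPullback sq (Ample.isInvertible_pullback g' (Ample.isInvertible_of_isRelAmple hL))
    (RelProjK.isRelAmple_of_iso ((Scheme.Modules.pullbackComp e.inv g').app L ≪≫
      (Scheme.Modules.pullbackCongr (IsPullback.isoPullback_inv_fst H)).app L) h)

/-- **Relative ampleness descends to a stage.** -/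
theorem exists_stage_isRelAmple {I : Type u} [SmallCategory I] [IsCofiltered I] (D : I ⥤ Scheme.{u}) {c : Cone D}
    (hc : IsLimit c) [∀ (i j : I) (φ : i ⟶ j), IsAffineHom (D.map φ)] {i₀ : I}
    {X₀ Y₀ XT YT : Scheme.{u}} (u : X₀ ⟶ Y₀) (v : Y₀ ⟶ D.obj i₀) [QuasiCompact u] [QuasiSeparated u]
    [CompactSpace Y₀]
    {qY : YT ⟶ Y₀} {gT : YT ⟶ c.pt} {qX : XT ⟶ X₀} {fT : XT ⟶ YT}
    (hY : IsPullback qY gT v (c.π.app i₀)) (hX : IsPullback qX fT u qY) {L₀ : X₀.Modules}
    (hL₀ : PicF.IsInvertible L₀) (h : RelAmple.IsRelAmple fT ((Scheme.Modules.pullback qX).obj L₀)) :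
    ∃ j : Over i₀, RelAmple.IsRelAmple ((mapNat D i₀ v (u ≫ v) u rfl).app j)
      ((Scheme.Modules.pullback (pullback.fst (u ≫ v) (D.map j.hom))).obj L₀) := by
  classical
  haveI : CompactSpace X₀ := QuasiCompact.compactSpace_of_compactSpace u
  let G := diag D i₀ (u ≫ v)
  let cG := cone D i₀ (u ≫ v) (hX.paste_vert hY)
  have hcG : IsLimit cG := isLimitCone D i₀ (u ≫ v) (hX.paste_vert hY) hc
  haveI : ∀ (j k : Over i₀) (χ : j ⟶ k), IsAffineHom (G.map χ) :=
    fun j k χ => LimDesc.isAffineHom_map D i₀ (u ≫ v) χ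
  haveI : ∀ j, CompactSpace (G.obj j) := fun j => LimDesc.compactSpace_obj D i₀ (u ≫ v) j
  haveI : IsAffineHom qY := MorphismProperty.of_isPullback (P := @IsAffineHom) hY.flip (isAffineHom_π_app D c hc i₀)
  let top : Over i₀ := Over.mk (𝟙 i₀)
  let p : G.obj top ⟶ X₀ := pullback.fst _ _
  have hp : cG.π.app top ≫ p = qX := LimDesc.π_fst D i₀ (u ≫ v) (hX.paste_vert hY) top
  let M := (Scheme.Modules.pullback p).obj L₀
  obtain ⟨κ, hκ, W, hW, -, hcov⟩ := QCoh.exists_finite_affine_cover (U := (⊤ : Y₀.Opens))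
    (by simpa using isCompact_univ)
  haveI := Fintype.ofFinite κ
  haveI : IsAffineHom p := by
    show IsAffineHom (pullback.fst (u ≫ v) (D.map top.hom))
    exact MorphismProperty.pullback_fst (P := @IsAffineHom) _ _ inferInstance
  have key : ∀ k, ∃ q : Over i₀, ∀ {m : Over i₀} (χ : m ⟶ q),
      CohB1.IsAmple ((Scheme.Modules.pullback
        (pullback.fst (u ≫ v) (D.map m.hom) ⁻¹ᵁ (u ⁻¹ᵁ W k)).ι).obj
          ((Scheme.Modules.pullback (pullback.fst (u ≫ v) (D.map m.hom))).obj L₀)) := by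
    intro k
    let U : (G.obj top).Opens := p ⁻¹ᵁ (u ⁻¹ᵁ W k)
    have hUc : IsCompact (U : Set (G.obj top)) :=
      QuasiCompact.isCompact_preimage (f := p) _ (u ⁻¹ᵁ W k).2
        (QuasiCompact.isCompact_preimage (f := u) _ (W k).2 (hW k).isCompact)
    haveI : ∀ j : Over top, CompactSpace ((opensDiagram G top U).obj j) := fun j =>
      isCompact_iff_compactSpace.mp (QuasiCompact.isCompact_preimage (f := G.map j.hom) _ U.2 hUc)
    haveI : ∀ j : Over top, QuasiSeparatedSpace ((opensDiagram G top U).obj j) := fun j =>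
      haveI : IsAffine (W k : Scheme.{u}) := hW k
      haveI : QuasiSeparated ((G.map j.hom ≫ p ≫ u) ∣_ W k) :=
        IsZariskiLocalAtTarget.restrict (P := @QuasiSeparated) (inferInstance : QuasiSeparated (G.map j.hom ≫ p ≫ u)) _
      quasiSeparatedSpace_of_quasiSeparated ((G.map j.hom ≫ p ≫ u) ∣_ W k)
    haveI : ∀ (j l : Over top) (χ : j ⟶ l), IsAffineHom ((opensDiagram G top U).map χ) :=
      fun j l χ => inferInstance
    let o := Over.mk (𝟙 top)
    let M₁ := (Scheme.Modules.pullback (G.map o.hom ⁻¹ᵁ U).ι).obj ((Scheme.Modules.pullback (G.map o.hom)).obj M)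
    have hlim : CohB1.IsAmple ((Scheme.Modules.pullback ((opensCone G cG top U).π.app o)).obj M₁) := by
      have h1 := (Ample.isAmple_restrict_iff _ _).1 (h.2 ⟨qY ⁻¹ᵁ W k, (hW k).preimage qY⟩)
      have e0 : (opensCone G cG top U).π.app o ≫ (G.map o.hom ⁻¹ᵁ U).ι ≫ G.map o.hom =
          (cG.π.app top ⁻¹ᵁ U).ι ≫ cG.π.app top := by
        show (cG.π.app top).resLE _ _ _ ≫ _ = _
        rw [Scheme.Hom.resLE_comp_ι_assoc, cG.w]
      let a : XT ⟶ G.obj top := cG.π.app top
      have hVeq : fT ⁻¹ᵁ (qY ⁻¹ᵁ W k) = a ⁻¹ᵁ U :=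
        calc fT ⁻¹ᵁ (qY ⁻¹ᵁ W k) = (fT ≫ qY) ⁻¹ᵁ W k := rfl
          _ = (qX ≫ u) ⁻¹ᵁ W k := by rw [hX.w]
          _ = ((a ≫ p) ≫ u) ⁻¹ᵁ W k := by rw [show a ≫ p = qX from hp]
          _ = _ := rfl
      show CohB1.IsAmple ((Scheme.Modules.pullback ((opensCone G cG top U).π.app o)).obj
        ((Scheme.Modules.pullback (G.map o.hom ⁻¹ᵁ U).ι).obj ((Scheme.Modules.pullback (G.map o.hom)).obj
          ((Scheme.Modules.pullback p).obj L₀))))
      simp only [Ample.isAmple_pullback_comp_iff]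
      rw [Category.assoc, Category.assoc] at *
      rw [reassoc_of% e0]
      rw [Ample.isAmple_pullback_comp_iff] at h1
      rw [show cG.π.app top ≫ p = qX from hp]
      have h1' : CohB1.IsAmple ((Scheme.Modules.pullback ((a ⁻¹ᵁ U).ι ≫ qX)).obj L₀) := hVeq ▸ h1
      exact h1'
    obtain ⟨q, χ, hq⟩ := exists_stage_isAmple (isLimitOpensCone G cG hcG top U) o
      (Ample.isInvertible_pullback _ (Ample.isInvertible_pullback _ (Ample.isInvertible_pullback _ hL₀))) hlim
    refine ⟨q.left, fun {m} ψ => ?_⟩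
    have hpm : pullback.fst (u ≫ v) (D.map m.hom) = (G.map ψ ≫ G.map q.hom) ≫ p := by
      rw [← G.map_comp]
      exact (pullback.lift_fst _ _ _).trans (Category.comp_id _) |>.symm
    haveI : IsAffineHom (G.map ψ ∣_ (G.map q.hom ⁻¹ᵁ U)) := IsZariskiLocalAtTarget.restrict (P := @IsAffineHom) (inferInstance : IsAffineHom (G.map ψ)) _
    have h2 := Ample.isAmple_pullback_of_isAffineHom (G.map ψ ∣_ (G.map q.hom ⁻¹ᵁ U)) hq
    have e1 : (G.map ψ ∣_ (G.map q.hom ⁻¹ᵁ U)) ≫ (opensDiagram G top U).map χ ≫ (G.map o.hom ⁻¹ᵁ U).ι ≫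
        G.map o.hom ≫ p = (G.map ψ ⁻¹ᵁ (G.map q.hom ⁻¹ᵁ U)).ι ≫ (G.map ψ ≫ G.map q.hom) ≫ p := by
      have e2 : G.map χ.left ≫ G.map o.hom = G.map q.hom := by
        rw [← G.map_comp]; exact congrArg G.map (Over.w χ)
      show _ ≫ (G.map χ.left).resLE _ _ _ ≫ _ = _
      rw [Scheme.Hom.resLE_comp_ι_assoc, morphismRestrict_ι_assoc, reassoc_of% e2]
      simp only [Category.assoc]
    simp only [M₁, M, Ample.isAmple_pullback_comp_iff, Category.assoc] at h2
    rw [e1] at h2
    rw [Ample.isAmple_pullback_comp_iff]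
    have hVm : pullback.fst (u ≫ v) (D.map m.hom) ⁻¹ᵁ (u ⁻¹ᵁ W k) = G.map ψ ⁻¹ᵁ (G.map q.hom ⁻¹ᵁ U) := by
      rw [hpm]
      rfl
    rw [hVm, hpm]
    exact h2
  choose q hq using key
  obtain ⟨m, hm⟩ := IsCofiltered.inf_objs_exists (Finset.univ.image q)
  refine ⟨m, ?_⟩
  let um := (mapNat D i₀ v (u ≫ v) u rfl).app m
  haveI : QuasiCompact um := MorphismProperty.of_isPullback (P := @QuasiCompact)
    (LimDesc.isPullback_mapNat D i₀ v (u ≫ v) u rfl m) inferInstance
  haveI : IsAffineHom (pullback.fst v (D.map m.hom)) :=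
    MorphismProperty.pullback_fst (P := @IsAffineHom) _ _ inferInstance
  refine Ample.isRelAmple_of_cover fun y => ?_
  obtain ⟨k, hk⟩ := Opens.mem_iSup.1 (hcov (trivial : pullback.fst v (D.map m.hom) y ∈ (⊤ : Y₀.Opens)))
  refine ⟨pullback.fst v (D.map m.hom) ⁻¹ᵁ W k, hk, (hW k).preimage _, ?_⟩
  rw [Ample.isAmple_restrict_iff]
  have hopen : um ⁻¹ᵁ (pullback.fst v (D.map m.hom) ⁻¹ᵁ W k) = pullback.fst (u ≫ v) (D.map m.hom) ⁻¹ᵁ (u ⁻¹ᵁ W k) := by
    show (um ≫ pullback.fst v (D.map m.hom)) ⁻¹ᵁ W k = (pullback.fst (u ≫ v) (D.map m.hom) ≫ u) ⁻¹ᵁ W k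
    rw [show um ≫ pullback.fst v (D.map m.hom) = pullback.fst (u ≫ v) (D.map m.hom) ≫ u from pullback.lift_fst _ _ _]
  rw [hopen]
  obtain ⟨ψ⟩ := hm (Finset.mem_image_of_mem q (Finset.mem_univ k))
  exact hq k ψ

section Fibres

variable {X Y S : Scheme.{u}} (f : X ⟶ Y) (g : Y ⟶ S)

/-- The morphism induced on base changes. -/
abbrev bcMap {T : Scheme.{u}} (x : T ⟶ S) : pullback (f ≫ g) x ⟶ pullback g x :=
  pullback.lift (pullback.fst (f ≫ g) x ≫ f) (pullback.snd (f ≫ g) x) ((Category.assoc _ _ _).trans pullback.condition)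

theorem isPullback_bcMap {T : Scheme.{u}} (x : T ⟶ S) :
    IsPullback (pullback.fst (f ≫ g) x) (bcMap f g x) f (pullback.fst g x) := by
  refine (IsPullback.of_bot ?_ (pullback.lift_fst _ _ _).symm (IsPullback.of_hasPullback g x))
  rw [pullback.lift_snd]
  exact IsPullback.of_hasPullback (f ≫ g) x

/-- Relative ampleness after a base change gives relative ampleness on the fibres. -/
theorem isRelAmple_fibre_of_baseChange [QuasiCompact f] {L : X.Modules} (hL : PicF.IsInvertible L)
    {T Yb Xb : Scheme.{u}} {b : T ⟶ S} {qY : Yb ⟶ Y} {vb : Yb ⟶ T} (hYb : IsPullback qY vb g b)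
    {qX : Xb ⟶ X} {fb : Xb ⟶ Yb} (hXb : IsPullback qX fb f qY)
    (h : RelAmple.IsRelAmple fb ((Scheme.Modules.pullback qX).obj L)) (z : T) :
    RelAmple.IsRelAmple (bcMap f g (S.fromSpecResidueField (b z)))
      ((Scheme.Modules.pullback (pullback.fst (f ≫ g) (S.fromSpecResidueField (b z)))).obj L) := by
  haveI : QuasiCompact fb := MorphismProperty.of_isPullback hXb inferInstance
  let xz := T.fromSpecResidueField z
  let x := S.fromSpecResidueField (b z)
  let ρ := Spec.map (b.residueFieldMap z)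
  have hρ : ρ ≫ x = xz ≫ b := Scheme.Hom.SpecMap_residueFieldMap_fromSpecResidueField b z
  haveI : Flat ρ := by
    rw [HasRingHomProperty.Spec_iff (P := @Flat)]
    letI := (b.residueFieldMap z).hom.toAlgebra
    exact RingHom.flat_algebraMap_iff.2 inferInstance
  haveI : Surjective ρ := ⟨fun w => ⟨default, Subsingleton.elim _ _⟩⟩
  haveI : QuasiCompact ρ := inferInstance
  have hw : (pullback.fst vb xz ≫ qY) ≫ g = (pullback.snd vb xz ≫ ρ) ≫ x := by
    rw [Category.assoc, hYb.w, Category.assoc, hρ, pullback.condition_assoc]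
  let w : pullback vb xz ⟶ pullback g x := pullback.lift _ _ hw
  have hsq : IsPullback w (pullback.snd vb xz) (pullback.snd g x) ρ := by
    refine IsPullback.of_right ?_ (pullback.lift_snd _ _ hw) (IsPullback.of_hasPullback g x)
    rw [pullback.lift_fst, hρ]
    exact (IsPullback.of_hasPullback vb xz).paste_horiz hYb
  haveI : Flat w := MorphismProperty.of_isPullback (P := @Flat) hsq.flip ‹_›
  haveI : Surjective w := MorphismProperty.of_isPullback (P := @Surjective) hsq.flip ‹_›
  haveI : QuasiCompact w := MorphismProperty.of_isPullback (P := @QuasiCompact) hsq.flip ‹_›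
  -- the family over the extension field
  let qz := pullback.fst vb xz
  let fz := pullback.snd fb qz
  have h1 : RelAmple.IsRelAmple fz ((Scheme.Modules.pullback (pullback.fst fb qz)).obj
      ((Scheme.Modules.pullback qX).obj L)) := Groth.Agent.S2332.result fb qz _ h
  have Hx := isPullback_bcMap f g x
  have hbig : IsPullback (pullback.fst fb qz ≫ qX) fz f (w ≫ pullback.fst g x) := by
    rw [pullback.lift_fst]
    exact (IsPullback.of_hasPullback fb qz).paste_horiz hXb
  let p := Hx.lift (pullback.fst fb qz ≫ qX) (fz ≫ w) (hbig.w.trans (Category.assoc _ _ _).symm)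
  have hp1 : p ≫ pullback.fst (f ≫ g) x = pullback.fst fb qz ≫ qX := Hx.lift_fst _ _ _
  have sq : IsPullback p fz (bcMap f g x) w := by
    refine IsPullback.of_right ?_ (Hx.lift_snd _ _ _) Hx
    rw [hp1]
    exact hbig
  refine Ample.isRelAmple_of_isPullback sq (Ample.isInvertible_pullback _ hL)
    (RelProjK.isRelAmple_of_iso ((Scheme.Modules.pullbackComp p (pullback.fst (f ≫ g) x)).app L ≪≫
      (Scheme.Modules.pullbackCongr hp1).app L ≪≫
      ((Scheme.Modules.pullbackComp (pullback.fst fb qz) qX).app L).symm) h1)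

/-- **The locus of fibres on which a module is relatively ample is ind-constructible.** -/
theorem isIndConstructible_fibre_isRelAmple [QuasiCompact g] [QuasiSeparated g] [QuasiCompact f] [QuasiSeparated f]
    {L : X.Modules} (hL : PicF.IsInvertible L) :
    ProCons.IsIndConstructible {s : S | RelAmple.IsRelAmple (bcMap f g (S.fromSpecResidueField s))
        ((Scheme.Modules.pullback (pullback.fst (f ≫ g) (S.fromSpecResidueField s))).obj L)} := by
  refine Constr.isIndConstructible_of_pieces fun s hs => ?_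
  obtain ⟨_, ⟨V, hV, rfl⟩, hsV, -⟩ :=
    S.isBasis_affineOpens.exists_subset_of_mem_open (Set.mem_univ s) isOpen_univ
  replace hV : IsAffineOpen V := hV
  have hr : Set.range (S.fromSpecResidueField s) ⊆ Set.range hV.fromSpec := by
    rw [Scheme.range_fromSpecResidueField, hV.range_fromSpec]
    exact Set.singleton_subset_iff.2 hsV
  let x₀ := IsOpenImmersion.lift hV.fromSpec (S.fromSpecResidueField s) hr
  obtain ⟨I, _, _, _, D, π, hl, hD, hDa, -⟩ := AbsApprox.exists_rel_approx x₀
  let D' := D ⋙ Over.forget (Spec Γ(S, V))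
  let cD := (Over.forget (Spec Γ(S, V))).mapCone (Cone.mk (Over.mk x₀) π)
  have hcD : IsLimit cD := isLimitOfPreserves (Over.forget _) hl
  haveI : ∀ (i j : Iᵒᵖ) (a : i ⟶ j), IsAffineHom (D'.map a) := hDa
  obtain ⟨i₀⟩ : Nonempty Iᵒᵖ := inferInstance
  let b : D'.obj i₀ ⟶ S := (D.obj i₀).hom ≫ hV.fromSpec
  haveI : CompactSpace (D'.obj i₀) := (hD i₀).2.2.2.1
  haveI : QuasiSeparatedSpace (D'.obj i₀) := (hD i₀).2.2.2.2
  let v : pullback g b ⟶ D'.obj i₀ := pullback.snd g b
  haveI : QuasiCompact v := MorphismProperty.pullback_snd _ _ inferInstance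
  haveI : QuasiSeparated v := MorphismProperty.pullback_snd _ _ inferInstance
  haveI : CompactSpace (pullback g b : Scheme.{u}) := QuasiCompact.compactSpace_of_compactSpace v
  haveI : QuasiSeparatedSpace (pullback g b : Scheme.{u}) := quasiSeparatedSpace_of_quasiSeparated v
  let u := bcMap f g b
  have Hu := isPullback_bcMap f g b
  haveI : QuasiCompact u := MorphismProperty.of_isPullback Hu inferInstance
  haveI : QuasiSeparated u := MorphismProperty.of_isPullback Hu inferInstance
  let L₀ := (Scheme.Modules.pullback (pullback.fst (f ≫ g) b)).obj L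
  let x := S.fromSpecResidueField s
  have hxb : cD.π.app i₀ ≫ b = x := by
    show (π.app i₀).left ≫ (D.obj i₀).hom ≫ hV.fromSpec = x
    rw [← Category.assoc, Over.w (π.app i₀)]
    exact IsOpenImmersion.lift_fac _ _ _
  let qY : pullback g x ⟶ pullback g b :=
    pullback.lift (pullback.fst g x) (pullback.snd g x ≫ cD.π.app i₀) (by rw [Category.assoc, hxb]; exact pullback.condition)
  have hY : IsPullback qY (pullback.snd g x) v (cD.π.app i₀) := by
    refine IsPullback.of_right ?_ (pullback.lift_snd _ _ _) (IsPullback.of_hasPullback g b)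
    rw [pullback.lift_fst, hxb]
    exact IsPullback.of_hasPullback g x
  have Hx := isPullback_bcMap f g x
  let qX := Hu.lift (pullback.fst (f ≫ g) x) (bcMap f g x ≫ qY) (by
    rw [Category.assoc, show qY ≫ pullback.fst g b = pullback.fst g x from pullback.lift_fst _ _ _]
    exact Hx.w)
  have hX : IsPullback qX (bcMap f g x) u qY := by
    refine IsPullback.of_right ?_ (Hu.lift_snd _ _ _) Hu
    rw [Hu.lift_fst, show qY ≫ pullback.fst g b = pullback.fst g x from pullback.lift_fst _ _ _]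
    exact Hx
  obtain ⟨j, hj⟩ := exists_stage_isRelAmple D' hcD u v hY hX (Ample.isInvertible_pullback _ hL)
    (RelProjK.isRelAmple_of_iso ((Scheme.Modules.pullbackComp qX (pullback.fst (f ≫ g) b)).app L ≪≫
      (Scheme.Modules.pullbackCongr (Hu.lift_fst _ _ _)).app L) hs)
  let hj' := D.obj j.left
  haveI : LocallyOfFinitePresentation hj'.hom := (hD j.left).1
  haveI : QuasiCompact hj'.hom := (hD j.left).2.1
  have hb' : D'.map j.hom ≫ b = hj'.hom ≫ hV.fromSpec := by
    show (D.map j.hom).left ≫ (D.obj i₀).hom ≫ _ = _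
    rw [← Category.assoc, Over.w (D.map j.hom)]
  refine ⟨V, V.2, hsV, Set.range (D'.map j.hom ≫ b), ⟨cD.π.app j.left (default : Spec (S.residueField s)), ?_⟩, ?_, ?_⟩
  · rw [← Scheme.Hom.comp_apply, ← Category.assoc, cD.w, hxb]
    exact Set.mem_singleton_iff.1 (by rw [← Scheme.range_fromSpecResidueField]; exact ⟨_, rfl⟩)
  · rintro _ ⟨z, rfl⟩
    exact isRelAmple_fibre_of_baseChange f g hL
      ((IsPullback.of_hasPullback v (D'.map j.hom)).paste_horiz (IsPullback.of_hasPullback g b))
      ((LimDesc.isPullback_mapNat D' i₀ v (u ≫ v) u rfl j).paste_horiz Hu)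
      (RelProjK.isRelAmple_of_iso ((Scheme.Modules.pullbackComp _ _).app L).symm hj) z
  · haveI : CompactSpace (V : Scheme.{u}) := isCompact_iff_compactSpace.mp hV.isCompact
    have h1 := hj'.hom.isLocallyConstructible_image IsLocallyConstructible.univ
    rw [Set.image_univ] at h1
    have h2 := Constr.isLocallyConstructible_preimage hV.isoSpec.hom h1
    have e : (Subtype.val ⁻¹' Set.range (D'.map j.hom ≫ b) : Set V) = hV.isoSpec.hom ⁻¹' Set.range hj'.hom := by
      ext w
      rw [hb']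
      constructor
      · rintro ⟨z, hz⟩
        refine ⟨z, hV.fromSpec.isOpenEmbedding.injective ?_⟩
        exact hz.trans (by rw [← Scheme.Hom.comp_apply, IsAffineOpen.isoSpec_hom_fromSpec]; rfl)
      · rintro ⟨z, hz⟩
        refine ⟨z, ?_⟩
        exact (congrArg hV.fromSpec hz).trans (by rw [← Scheme.Hom.comp_apply, IsAffineOpen.isoSpec_hom_fromSpec]; rfl)
    exact (congrArg IsLocallyConstructible e).mpr h2

end Fibres

end GrothLib.AmpSpread10
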