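import Groth.Agent.Lib.AmpleDesc.Sections
import Groth.Agent.Lib.AffUnion.Nhds

/-!
# Sections over a localisation of the base, and spreading of inclusions along the base
-/

set_option autoImplicit false
set_option linter.all false
set_option backward.isDefEq.respectTransparency false
set_option maxHeartbeats 1000000

universe u

open CategoryTheory CategoryTheory.Limits AlgebraicGeometry Opposite TopologicalSpace TensorProduct
open GrothLib.InvExt (mres)

noncomputable section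

namespace GrothLib.Ample.Cocycle

variable {X Y : Scheme.{u}} (c : Cocycle X) (j : Y ⟶ X) {n : ℕ}

/-- Over a base change in which every function is a fraction, the loci of the pulled back cocycle are pullbacks
of loci. -/
theorem exists_locus_comap_eq {S S' : Scheme.{u}} [IsAffine S] [IsAffine S'] [CompactSpace X] [QuasiSeparatedSpace X]
    {f : X ⟶ S} {f' : Y ⟶ S'} {g : S' ⟶ S} [Flat g] (h : IsPullback j f' f g)
    (hfrac : ∀ r : Γ(S', ⊤), ∃ a s : Γ(S, ⊤), IsUnit (g.appLE ⊤ ⊤ le_top s) ∧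
      r * g.appLE ⊤ ⊤ le_top s = g.appLE ⊤ ⊤ le_top a)
    (b : (c.comap j).sect n ⊤) :
    ∃ a : c.sect n ⊤, (c.comap j).locus b = j ⁻¹ᵁ c.locus a := by
  obtain ⟨θ, hθ⟩ := c.exists_pullback_compat j n
  haveI : (c.twist n).IsQuasicoherent := InvExt.isQuasicoherent_of_isInvertible (c.isInvertible_twist n)
  let P : Y.Opens := FlatBC.upU j f' ⊤ ⊤
  have hqs : IsQuasiSeparated ((f ⁻¹ᵁ (⊤ : S.Opens) : X.Opens) : Set X) := by
    rw [Scheme.Hom.preimage_top]
    exact isQuasiSeparated_univ_iff.2 inferInstance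
  have hflat : (g.appLE ⊤ ⊤ (le_top : (⊤ : S'.Opens) ≤ g ⁻¹ᵁ ⊤)).hom.Flat :=
    HasRingHomProperty.appLE (P := @Flat) g inferInstance ⟨⊤, isAffineOpen_top S⟩ ⟨⊤, isAffineOpen_top S'⟩ _
  obtain ⟨-, hs⟩ := FlatBC.bij_of_isCompact h (c.twist n) (V := ⊤) (W := ⊤) le_top (isAffineOpen_top S)
    (isAffineOpen_top S') hflat hqs (U := ⊤) isCompact_univ le_top
  let b' : Γ((Scheme.Modules.pullback j).obj (c.twist n), P) :=
    θ.inv.app P ((c.comap j).sectRes (le_top : P ≤ ⊤) b)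
  letI : Algebra Γ(S, ⊤) Γ(S', ⊤) := (g.appLE ⊤ ⊤ le_top).hom.toAlgebra
  let M := FlatBC.secM f' ((Scheme.Modules.pullback j).obj (c.twist n)) ⊤ P inf_le_right
  letI : Module Γ(S, ⊤) M := Module.compHom _ (g.appLE ⊤ ⊤ le_top).hom
  haveI : IsScalarTower Γ(S, ⊤) Γ(S', ⊤) M := IsScalarTower.of_algebraMap_smul fun _ _ => rfl
  let Φ := FlatBC.pullHom h (c.twist n) (V := ⊤) (W := ⊤) le_top (U := ⊤) le_top
  have key : ∀ z, ∃ s : Γ(S, ⊤), IsUnit (algebraMap Γ(S, ⊤) Γ(S', ⊤) s) ∧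
      ∃ a, (algebraMap Γ(S, ⊤) Γ(S', ⊤) s) • Φ.liftBaseChange Γ(S', ⊤) z = Φ a := by
    intro z
    induction z using TensorProduct.induction_on with
    | zero => exact ⟨1, by simp, 0, by rw [map_zero, smul_zero, map_zero]⟩
    | add u v hu hv =>
      obtain ⟨s, hsu, a, ha⟩ := hu
      obtain ⟨t, htu, a', ha'⟩ := hv
      refine ⟨s * t, by rw [map_mul]; exact hsu.mul htu, t • a + s • a', ?_⟩
      rw [map_add, map_add, LinearMap.map_smul, LinearMap.map_smul, ← ha, ← ha', smul_add, ← algebraMap_smul Γ(S', ⊤) t,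
        ← algebraMap_smul Γ(S', ⊤) s, smul_smul, smul_smul, map_mul,
        mul_comm (algebraMap Γ(S, ⊤) Γ(S', ⊤) t)]
    | tmul r a =>
      obtain ⟨a', s, hsu, hr⟩ := hfrac r
      refine ⟨s, hsu, a' • a, ?_⟩
      rw [LinearMap.liftBaseChange_tmul, LinearMap.map_smul, smul_smul, ← algebraMap_smul Γ(S', ⊤) a']
      congr 1
      exact (mul_comm _ _).trans hr
  obtain ⟨z, hz⟩ := hs b'
  obtain ⟨s, hsu, a, ha⟩ := key z
  refine ⟨(show c.sect n ⊤ from a), ?_⟩
  replace ha := ha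
  rw [hz] at ha
  have hapos := congrArg (fun w : M => (show (c.comap j).sect n P from
    θ.hom.app P (show Γ((Scheme.Modules.pullback j).obj (c.twist n), P) from w))) ha
  dsimp only [M] at hapos
  erw [FlatBC.secM_smul, app_smul] at hapos
  have e : θ.hom.app P b' = (c.comap j).sectRes (le_top : P ≤ ⊤) b := by
    simp only [b', ← CategoryTheory.comp_apply, ← Scheme.Modules.Hom.comp_app, Iso.inv_hom_id]
    rfl
  erw [e, hθ ⊤ P inf_le_left] at hapos
  let uP : Γ(Y, P) := f'.appLE ⊤ P inf_le_right (algebraMap Γ(S, ⊤) Γ(S', ⊤) s)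
  have huP : IsUnit uP := hsu.map _
  ext y
  simp only [SetLike.mem_coe]
  obtain ⟨i, hi⟩ := (c.comap j).exists_mem y
  have hyP : y ∈ P := ⟨trivial, trivial⟩
  have h3 : Y.basicOpen ((c.pullSect j (inf_le_left : P ≤ j ⁻¹ᵁ ⊤) (show c.sect n ⊤ from a)).1 i) =
      Y.basicOpen (((c.comap j).sectRes (le_top : P ≤ ⊤) b).1 i) := by
    refine (congrArg (fun w : (c.comap j).sect n P => Y.basicOpen (w.1 i)) hapos.symm).trans ?_
    show Y.basicOpen ((uP • (c.comap j).sectRes (le_top : P ≤ ⊤) b).1 i) = _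
    rw [smul_apply, Scheme.basicOpen_mul, Scheme.basicOpen_of_isUnit Y (huP.map (res _))]
    exact inf_eq_right.2 (Y.basicOpen_le _)
  erw [pullSect_apply, Scheme.basicOpen_appLE, sectRes_apply, Scheme.basicOpen_res] at h3
  have h4 := SetLike.ext_iff.1 h3 y
  show y ∈ (c.comap j).locus b ↔ j y ∈ c.locus (show c.sect n ⊤ from a)
  rw [(c.comap j).mem_locus_iff b hi, c.mem_locus_iff _ (i := i) hi]
  exact ⟨fun hy => (h4.2 ⟨⟨hyP, hi⟩, hy⟩).2, fun hy => (h4.1 ⟨⟨hyP, hi⟩, hy⟩).2⟩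

end GrothLib.Ample.Cocycle

namespace GrothLib.AmpSpread10

variable {X : Scheme.{u}} {A : Type u} [CommRing A] (f : X ⟶ Spec (CommRingCat.of A)) (p : Spec (CommRingCat.of A))

/-- The functions of the base on an open. -/
def baseFn (Q : X.Opens) : A →+* Γ(X, Q) :=
  ((X.presheaf.map (homOfLE (le_top : Q ≤ ⊤)).op).hom.comp (f.appTop).hom).comp
    (Scheme.ΓSpecIso (CommRingCat.of A)).inv.hom

theorem basicOpen_baseFn (Q : X.Opens) (g : A) :
    X.basicOpen (baseFn f Q g) = Q ⊓ f ⁻¹ᵁ PrimeSpectrum.basicOpen g := by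
  show X.basicOpen (X.presheaf.map _ (f.appTop ((Scheme.ΓSpecIso (CommRingCat.of A)).inv g))) = _
  rw [Scheme.basicOpen_res]
  erw [← Scheme.preimage_basicOpen_top]
  rw [basicOpen_eq_of_affine]

/-- An affine open meets the preimage of a basic open of the base in an affine open. -/
theorem isAffineOpen_inf_preimage {V : X.Opens} (hV : IsAffineOpen V) (g : A) :
    IsAffineOpen (V ⊓ f ⁻¹ᵁ PrimeSpectrum.basicOpen g) :=
  basicOpen_baseFn f V g ▸ hV.basicOpen _

/-- An inclusion of opens over all generisations of a point of the base holds over a neighbourhood. -/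
theorem exists_basicOpen_inf_le {O U : X.Opens} (hO : IsCompact (O : Set X))
    (h : ∀ z ∈ O, f z ⤳ p → z ∈ U) :
    ∃ g : A, p ∈ PrimeSpectrum.basicOpen g ∧ O ⊓ f ⁻¹ᵁ PrimeSpectrum.basicOpen g ≤ U := by
  classical
  have key : ∀ Q : {Q : X.affineOpens // Q.1 ≤ O}, ∃ g : A, p ∈ PrimeSpectrum.basicOpen g ∧
      Q.1.1 ⊓ f ⁻¹ᵁ PrimeSpectrum.basicOpen g ≤ U := by
    intro Q
    let ψ : A →+* Γ(X, Q.1.1) := baseFn f Q.1.1
    have hψ := basicOpen_baseFn f Q.1.1
    obtain ⟨_, ⟨g, hg, rfl⟩, hle⟩ := AffUnion.exists_basicOpen_le_of_forall Q.1.2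
      (p.asIdeal.primeCompl.map ψ) U fun z hz hze => by
        refine h z (Q.2 hz) ((PrimeSpectrum.le_iff_specializes (f z) p).1 fun g hg => ?_)
        by_contra hgp
        have h1 := hze _ ⟨g, hgp, rfl⟩
        rw [hψ] at h1
        exact h1.2 hg
    exact ⟨g, hg, (hψ g).symm.trans_le hle⟩
  choose g hg hle using key
  obtain ⟨t, ht⟩ := hO.elim_finite_subcover (fun Q : {Q : X.affineOpens // Q.1 ≤ O} => (Q.1.1 : Set X))
    (fun Q => Q.1.1.2) (fun z hz => by
      obtain ⟨_, ⟨Q, hQ, rfl⟩, hzQ, hQle⟩ := X.isBasis_affineOpens.exists_subset_of_mem_open hz O.2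
      exact Set.mem_iUnion.mpr ⟨⟨⟨Q, hQ⟩, hQle⟩, hzQ⟩)
  refine ⟨∏ Q ∈ t, g Q, fun hmem => ?_, fun z hz => ?_⟩
  · obtain ⟨Q, hQ, hgQ⟩ := p.isPrime.prod_mem_iff.1 hmem
    exact hg Q hgQ
  · obtain ⟨Q, hQ, hzQ⟩ := Set.mem_iUnion₂.mp (ht hz.1)
    exact hle Q ⟨hzQ, fun hmem => hz.2 (Ideal.mem_of_dvd _ (Finset.dvd_prod_of_mem g hQ) hmem)⟩

end GrothLib.AmpSpread10
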