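import Groth.Agent.Lib.Algz56.AmpleLift
import Groth.Agent.Lib.FFormal7.Levels
import Groth.Agent.Lib.AdicExtra.Completion
import Groth.Agent.Lib.AmpleDesc.Main

/-!
# Over a Noetherian local ring ampleness can be tested on the closed fibre
-/

set_option autoImplicit false
set_option linter.all false
set_option backward.isDefEq.respectTransparency false
set_option maxHeartbeats 1000000

universe u

open CategoryTheory CategoryTheory.Limits AlgebraicGeometry Opposite TopologicalSpace
open IsLocalRing (maximalIdeal)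

noncomputable section

namespace GrothLib.AmpSpread10

variable {A : Type u} [CommRing A] [IsNoetherianRing A] [IsLocalRing A] {X Z : Scheme.{u}}

/-- An invertible module which is ample on the closed fibre of a proper scheme over a Noetherian local ring is
ample. -/
theorem isAmple_of_closedFibre (f : X ⟶ Spec (CommRingCat.of A)) [IsProper f] {L : X.Modules}
    (hL : PicF.IsInvertible L) {j : Z ⟶ X} {q : Z ⟶ Spec (CommRingCat.of (A ⧸ maximalIdeal A))}
    (h : IsPullback j q f (Spec.map (CommRingCat.ofHom (Ideal.Quotient.mk (maximalIdeal A)))))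
    (ha : CohB1.IsAmple ((Scheme.Modules.pullback j).obj L)) : CohB1.IsAmple L := by
  let m := maximalIdeal A
  have hm : m.FG := m.fg_of_isNoetherianRing
  let B := AdicCompletion m A
  let J : Ideal B := m.map (algebraMap A B)
  haveI : IsAdicComplete J B := AdicCompletion.isAdicComplete_self m hm
  haveI : IsLocalRing B := AdicCompletion.isLocalRing_of_fg hm
  haveI : IsLocalHom (algebraMap A B) := AdicCompletion.algebraMap_isLocalHom_of_fg hm
  haveI : Module.FaithfullyFlat A B := Module.FaithfullyFlat.of_flat_of_isLocalHom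
  let φ : CommRingCat.of A ⟶ CommRingCat.of B := CommRingCat.ofHom (algebraMap A B)
  haveI : Surjective (Spec.map φ) := ⟨fun x => PrimeSpectrum.comap_surjective_of_faithfullyFlat x⟩
  haveI : Flat (Spec.map φ) := by
    rw [HasRingHomProperty.Spec_iff (P := @Flat)]
    exact RingHom.flat_algebraMap_iff.2 inferInstance
  let X₁ := Limits.pullback f (Spec.map φ)
  let g : X₁ ⟶ X := pullback.fst _ _
  let f₁ : X₁ ⟶ Spec (CommRingCat.of B) := pullback.snd _ _
  have H : IsPullback g f₁ f (Spec.map φ) := IsPullback.of_hasPullback _ _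
  refine Ample.isAmple_of_isAmple_pullback H hL ?_
  letI : X₁.Over (Spec (CommRingCat.of B)) := ⟨f₁⟩
  haveI : IsProper (X₁ ↘ Spec (CommRingCat.of B)) := inferInstanceAs (IsProper f₁)
  let M := (Scheme.Modules.pullback g).obj L
  have hM : PicF.IsInvertible M := Ample.isInvertible_pullback g hL
  let ι := FFormal7.levι J X₁
  let Lk : (k : ℕ) → (FFormal7.lev J X₁ k).Modules := fun k => (Scheme.Modules.pullback (ι k)).obj M
  refine Algz56.isAmple_of_levels (FFormal7.isAdicSys_lev J X₁) (FFormal7.isProper_levBase J X₁ 0)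
    (FFormal7.isPullback_lev J X₁) (fun k => (FFormal7.levι_trans J X₁ k).symm) hM (L := Lk)
    (fun k => Ample.isInvertible_pullback _ hM)
    (fun k => ⟨(Scheme.Modules.pullbackComp _ _).app M ≪≫
      (Scheme.Modules.pullbackCongr (FFormal7.levι_trans J X₁ k)).app M⟩) ?_ (fun k => ⟨Iso.refl _⟩)
  -- the residue rings agree
  let ψ : A ⧸ m →+* B ⧸ J ^ (0 + 1) :=
    Ideal.quotientMap (J ^ (0 + 1)) (algebraMap A B)
      (by rw [zero_add, pow_one]; exact Ideal.le_comap_map)
  let e : (B ⧸ J ^ (0 + 1)) ≃+* A ⧸ m :=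
    (Ideal.quotEquivOfEq (by rw [zero_add, pow_one]; exact (AdicCompletion.ker_evalOneₐ_eq_map m hm).symm)).trans
      (RingHom.quotientKerEquivOfSurjective (f := (AdicCompletion.evalOneₐ m).toRingHom)
        (AdicCompletion.evalOneₐ_surjective m))
  have hψ : ∀ a, e (ψ a) = a := by
    intro a
    obtain ⟨a, rfl⟩ := Ideal.Quotient.mk_surjective a
    exact (AdicCompletion.evalOneₐ m).commutes a
  have hbij : Function.Bijective ψ := by
    refine ⟨Function.LeftInverse.injective hψ, fun b => ⟨e b, e.injective ?_⟩⟩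
    rw [hψ]
  haveI : IsIso (CommRingCat.ofHom ψ) :=
    (ConcreteCategory.isIso_iff_bijective (C := CommRingCat) _).2 hbij
  have h0 := (FFormal7.isPullback_lev J X₁ 0).paste_horiz H
  have h1 : IsPullback (ι 0 ≫ g) (FFormal7.levBase J X₁ 0 ≫ Spec.map (CommRingCat.ofHom ψ)) f
      (Spec.map (CommRingCat.ofHom (Ideal.Quotient.mk m))) := by
    refine IsPullback.of_iso h0 (Iso.refl _) (Iso.refl _) (asIso (Spec.map (CommRingCat.ofHom ψ))) (Iso.refl _)
      (by simp [ι]) (by simp) (by simp) ?_
    simp only [Iso.refl_hom, Category.comp_id, asIso_hom, CohB1.specQuot, φ, ← Spec.map_comp,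
      ← CommRingCat.ofHom_comp]
    rfl
  have e1 : CohB1.IsAmple ((Scheme.Modules.pullback (h1.isoIsPullback _ _ h).hom).obj
      ((Scheme.Modules.pullback j).obj L)) := Ample.isAmple_pullback_of_isAffineHom _ ha
  exact (Ample.isAmple_iff_of_iso ((Scheme.Modules.pullbackComp _ _).app L ≪≫
    (Scheme.Modules.pullbackCongr (IsPullback.isoIsPullback_hom_fst _ _ h1 h)).app L ≪≫
    ((Scheme.Modules.pullbackComp (ι 0) g).app L).symm)).1 e1

end GrothLib.AmpSpread10
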