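import Groth.Agent.Lib.AmpSpread10.SemiLocal
import Groth.Agent.Lib.NormAmple.Pushdown
import Groth.Agent.Lib.Ample.RelAmple

/-!
# Norms of relatively ample modules
-/

set_option autoImplicit false
set_option linter.all false
set_option backward.isDefEq.respectTransparency false
set_option maxHeartbeats 1000000

universe u

open CategoryTheory CategoryTheory.Limits AlgebraicGeometry TopologicalSpace Opposite
open GrothLib.InvExt (mres IsGen)
open GrothLib.Ample GrothLib.NormAmple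

noncomputable section

namespace GrothLib.AmpSpread10

/-- Two cocycles on the same pieces with the same transition functions have isomorphic twists. -/
theorem nonempty_twist_iso {X : Scheme.{u}} {ι : Type u} (D D' : ι → X.Opens) (hDD' : ∀ i, D i = D' i)
    (g : ∀ i j, Γ(X, D i ⊓ D j)) (g' : ∀ i j, Γ(X, D' i ⊓ D' j)) (hc hs hch) (hc' hs' hch')
    (h : ∀ i j, g i j = res (inf_le_inf (hDD' i).le (hDD' j).le) (g' i j)) :
    Nonempty (({ ι := ι, D := D, g := g, cover := hc, self := hs, change := hch } : Cocycle X).twist 1 ≅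
      ({ ι := ι, D := D', g := g', cover := hc', self := hs', change := hch' } : Cocycle X).twist 1) := by
  let d : Cocycle X := { ι := ι, D := D, g := g, cover := hc, self := hs, change := hch }
  let d' : Cocycle X := { ι := ι, D := D', g := g', cover := hc', self := hs', change := hch' }
  let m : ∀ i, Γ(d'.twist 1, d.D i) := fun i => d'.base 1 i (hDD' i).le
  have hm : d.IsFamily 1 (M := d'.twist 1) m := fun i j W hi hj => by
    have hG : d'.G i j (hi.trans (hDD' i).le) (hj.trans (hDD' j).le) = d.G i j hi hj := by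
      show res _ (g' i j) = res (le_inf hi hj) (g i j)
      rw [h, res_res]
    have h1 := (d'.sectRes_base 1 j (hDD' j).le hj).trans
      (d'.base_eq_smul_base 1 i j (hi.trans (hDD' i).le) (hj.trans (hDD' j).le))
    rw [hG, ← d'.sectRes_base 1 i (hDD' i).le hi] at h1
    exact h1
  haveI := d.isIso_homOfFamily hm fun i => d'.isGen_base 1 i (hDD' i).le
  exact ⟨asIso (d.homOfFamily hm)⟩

variable {X Y B : Scheme.{u}} {π : X ⟶ Y} {d : ℕ}

/-- A norm restricts to an open of the target. -/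
def normRestrict (ν : Nrm.NormOfDegree π d) (U : Y.Opens) : Nrm.NormOfDegree (π ∣_ U) d where
  one_le := ν.one_le
  norm W := (ν.norm (U.ι ''ᵁ W)).comp (res (X := X) (image_morphismRestrict_preimage π U W).ge).toMonoidHom
  norm_res {W W'} i s := by
    show res (X := Y) (U.ι.image_mono i.le) (ν.norm (U.ι ''ᵁ W) (res _ s)) =
      ν.norm (U.ι ''ᵁ W') (res _ (res (X := X) ((π ⁻¹ᵁ U).ι.image_mono ((π ∣_ U).preimage_mono i.le)) s))
    rw [norm_res' ν (U.ι.image_mono i.le), res_res, res_res]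
    rfl
  norm_app W g := by
    show ν.norm (U.ι ''ᵁ W) (res _ ((π ∣_ U).app W g)) = g ^ d
    rw [morphismRestrict_app']
    refine Eq.trans (congrArg (ν.norm (U.ι ''ᵁ W)) ?_) (ν.norm_app (U.ι ''ᵁ W) g)
    refine (res_appLE _ _ _ _).trans ?_
    rw [Scheme.Hom.app_eq_appLE]
  norm_mem W s x hx hs := by
    have h1 : π x.1 ∈ U.ι ''ᵁ W := by
      exact ⟨(π ∣_ U) x, hx, congrArg (fun g : ((π ⁻¹ᵁ U : X.Opens) : Scheme.{u}) ⟶ Y => g x) (morphismRestrict_ι π U)⟩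
    rw [IsLocalRing.mem_maximalIdeal, mem_nonunits_iff] at hs ⊢
    replace hs : x ∉ (π ⁻¹ᵁ U : X.Opens).toScheme.basicOpen s := fun h =>
      hs (((π ⁻¹ᵁ U : X.Opens).toScheme.mem_basicOpen s x hx).mp h)
    intro hN
    have hN1 : (π ∣_ U) x ∈ (U : Scheme.{u}).basicOpen (ν.norm (U.ι ''ᵁ W) (res (X := X) (image_morphismRestrict_preimage π U W).ge s)) :=
      ((U : Scheme.{u}).mem_basicOpen _ _ hx).mpr hN
    have hN2 : π x.1 ∈ Y.basicOpen (ν.norm (U.ι ''ᵁ W) (res (X := X) (image_morphismRestrict_preimage π U W).ge s)) := by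
      have h2 : U.ι ((π ∣_ U) x) = π x.1 :=
        congrArg (fun g : ((π ⁻¹ᵁ U : X.Opens) : Scheme.{u}) ⟶ Y => g x) (morphismRestrict_ι π U)
      rw [← h2]
      have h3 : (U : Scheme.{u}).basicOpen (ν.norm (U.ι ''ᵁ W) (res (X := X) (image_morphismRestrict_preimage π U W).ge s)) ≤
          U.ι ⁻¹ᵁ Y.basicOpen (ν.norm (U.ι ''ᵁ W) (res (X := X) (image_morphismRestrict_preimage π U W).ge s)) := by
        rw [← Scheme.Hom.image_le_image_iff U.ι, Scheme.Hom.image_preimage_eq_opensRange_inf]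
        refine le_inf (Scheme.Hom.image_le_opensRange _ _) (le_of_eq ?_)
        rw [Scheme.image_basicOpen, Scheme.Opens.ι_appIso]
        rfl
      exact h3 hN1
    have h4 := Y.mem_basicOpen _ _ h1 |>.mp hN2
    refine (IsLocalRing.mem_maximalIdeal _).1 (ν.norm_mem (U.ι ''ᵁ W) _ x.1 h1 ?_) h4
    rw [IsLocalRing.mem_maximalIdeal, mem_nonunits_iff]
    intro hu
    refine hs ?_
    have h5 : x.1 ∈ X.basicOpen (res (X := X) (image_morphismRestrict_preimage π U W).ge s) :=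
      (X.mem_basicOpen _ _ h1).mpr hu
    erw [Scheme.basicOpen_res] at h5
    have h6 : x.1 ∈ (π ⁻¹ᵁ U).ι ''ᵁ (π ⁻¹ᵁ U : X.Opens).toScheme.basicOpen s := by
      have h7 : (π ⁻¹ᵁ U).ι ''ᵁ (π ⁻¹ᵁ U : X.Opens).toScheme.basicOpen s = X.basicOpen (U := (π ⁻¹ᵁ U).ι ''ᵁ ((π ∣_ U) ⁻¹ᵁ W)) s := by
        rw [Scheme.image_basicOpen, Scheme.Opens.ι_appIso]
        rfl
      exact h7.ge h5.2
    obtain ⟨x', hx', hxx'⟩ := h6
    rwa [(π ⁻¹ᵁ U).ι.injective hxx'] at hx'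

/-- The norm of a relatively ample module is relatively ample. -/
theorem exists_isRelAmple_of_norm [IsFinite π] (ν : Nrm.NormOfDegree π d) (f : Y ⟶ B) [QuasiCompact f]
    {L : X.Modules} (hL : RelAmple.IsRelAmple (π ≫ f) L) :
    ∃ N : Y.Modules, RelAmple.IsRelAmple f N := by
  have hinv := Ample.isInvertible_of_isRelAmple hL
  have hloc : ∀ y : Y, ∃ (V : Y.Opens) (e : Γ(L, π ⁻¹ᵁ V)), y ∈ V ∧ IsGen L (π ⁻¹ᵁ V) e := by
    intro y
    obtain ⟨W, hW, hyW, -⟩ := exists_isAffineOpen_mem_and_subset (x := y) (U := ⊤) trivial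
    obtain ⟨t, ht⟩ := exists_section_genAt_finite hinv (hW.preimage π) (π.finite_preimage_singleton y)
      (fun z hz => by show π z ∈ W; rw [Set.mem_singleton_iff.mp hz]; exact hyW)
    let V : Y.Opens := ⟨_, (π.isClosedMap _ (VA.genOpen L t).2.isClosed_compl).isOpen_compl⟩
    have hVt : π ⁻¹ᵁ V ≤ VA.genOpen L t := fun z hz => by
      by_contra hz'
      exact hz ⟨z, hz', rfl⟩
    exact ⟨V, mres L (hVt.trans (VA.genOpen_le t)) t, fun ⟨z, hz, hzy⟩ => hz (VA.mem_genOpen.2 (ht z hzy)),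
      VA.isGen_of_le_genOpen hVt⟩
  choose V e hyV he using hloc
  have hV : ⨆ y, V y = ⊤ := eq_top_iff.2 fun z _ => Opens.mem_iSup.2 ⟨z, hyV z⟩
  have hcov : ⨆ y, π ⁻¹ᵁ V y = ⊤ := eq_top_iff.2 fun z _ => Opens.mem_iSup.2 ⟨π z, hyV (π z)⟩
  obtain ⟨γ, hs, hc, ⟨iL⟩⟩ := exists_cocycle_of_gens (fun y => π ⁻¹ᵁ V y) hcov e he
  let cX : Cocycle X := { ι := Y, D := fun y => π ⁻¹ᵁ V y, g := γ, cover := hcov, self := hs, change := hc }
  let cY := normCocycle ν V hV γ hs hc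
  refine ⟨cY.twist 1, ‹QuasiCompact f›, fun O => ?_⟩
  let U : Y.Opens := f ⁻¹ᵁ O.1
  haveI : CompactSpace (U : Scheme.{u}) := isCompact_iff_compactSpace.mp (f.isCompact_preimage O.2.isCompact)
  let j := (π ⁻¹ᵁ U).ι
  let πU := π ∣_ U
  haveI : IsFinite πU := IsZariskiLocalAtTarget.restrict (P := @IsFinite) ‹IsFinite π› U
  have hD : ∀ y, πU ⁻¹ᵁ (U.ι ⁻¹ᵁ V y) = j ⁻¹ᵁ (π ⁻¹ᵁ V y) := fun y => by
    show (πU ≫ U.ι) ⁻¹ᵁ V y = (j ≫ π) ⁻¹ᵁ V y
    rw [morphismRestrict_ι]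
  let c' := cX.comap j
  let γ' : ∀ y z, Γ((π ⁻¹ᵁ U : X.Opens).toScheme, πU ⁻¹ᵁ (U.ι ⁻¹ᵁ V y) ⊓ πU ⁻¹ᵁ (U.ι ⁻¹ᵁ V z)) :=
    fun y z => res (inf_le_inf (hD y).le (hD z).le) (c'.g y z)
  have hs' : ∀ (y) (W : ((π ⁻¹ᵁ U : X.Opens).toScheme).Opens) (h : W ≤ πU ⁻¹ᵁ (U.ι ⁻¹ᵁ V y)),
      res (le_inf h h) (γ' y y) = 1 := fun y W h => by
    rw [res_res]
    exact c'.self y W (h.trans (hD y).le)
  have hc' : ∀ (a b e : Y) (W : ((π ⁻¹ᵁ U : X.Opens).toScheme).Opens) (ha : W ≤ πU ⁻¹ᵁ (U.ι ⁻¹ᵁ V a))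
      (hb : W ≤ πU ⁻¹ᵁ (U.ι ⁻¹ᵁ V b)) (he : W ≤ πU ⁻¹ᵁ (U.ι ⁻¹ᵁ V e)),
      res (le_inf ha he) (γ' a e) = res (le_inf ha hb) (γ' a b) * res (le_inf hb he) (γ' b e) :=
    fun a b e W ha hb he => by
      rw [res_res, res_res, res_res]
      exact c'.change a b e W (ha.trans (hD a).le) (hb.trans (hD b).le) (he.trans (hD e).le)
  have hcov' : ⨆ y, πU ⁻¹ᵁ (U.ι ⁻¹ᵁ V y) = ⊤ := by
    rw [← Scheme.Hom.preimage_iSup, ← Scheme.Hom.preimage_iSup, hV]
    rfl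
  have hVU : ⨆ y, U.ι ⁻¹ᵁ V y = ⊤ := by
    rw [← Scheme.Hom.preimage_iSup, hV]
    rfl
  -- the restricted module is ample upstairs
  haveI : CompactSpace ((π ⁻¹ᵁ U : X.Opens) : Scheme.{u}) := QuasiCompact.compactSpace_of_compactSpace πU
  obtain ⟨e₁⟩ := cX.nonempty_restrict_iso j iL
  obtain ⟨e₂⟩ := nonempty_twist_iso (fun y => πU ⁻¹ᵁ (U.ι ⁻¹ᵁ V y)) c'.D hD γ' c'.g hcov' hs' hc'
    c'.cover c'.self c'.change (fun _ _ => rfl)
  have hup := ((Cocycle.isAmple_iff _ (e₁ ≪≫ e₂.symm)).1 (hL.2 O)).2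
  have hdown := isAmp_normCocycle (normRestrict ν U) (fun y => U.ι ⁻¹ᵁ V y) hVU γ' hs' hc' hcov' hup
  obtain ⟨e₃⟩ := cY.nonempty_restrict_iso U.ι (Iso.refl (cY.twist 1))
  obtain ⟨e₄⟩ := nonempty_twist_iso (fun y => U.ι ⁻¹ᵁ V y) (fun y => U.ι ⁻¹ᵁ V y) (fun _ => rfl)
    (cY.comap U.ι).g (normCocycle (normRestrict ν U) (fun y => U.ι ⁻¹ᵁ V y) hVU γ' hs' hc').g
    (cY.comap U.ι).cover (cY.comap U.ι).self (cY.comap U.ι).change hVU
    (normCocycle (normRestrict ν U) (fun y => U.ι ⁻¹ᵁ V y) hVU γ' hs' hc').self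
    (normCocycle (normRestrict ν U) (fun y => U.ι ⁻¹ᵁ V y) hVU γ' hs' hc').change (fun y z => by
      rw [res_self]
      show (U.ι.appLE _ _ _).hom (ν.norm (V y ⊓ V z) (γ y z)) =
        ν.norm (U.ι ''ᵁ (U.ι ⁻¹ᵁ V y ⊓ U.ι ⁻¹ᵁ V z)) (res _ (res _ ((j.appLE _ _ _).hom (γ y z))))
      rw [Scheme.Opens.ι_appLE, Scheme.Opens.ι_appLE]
      show res (X := Y) _ (ν.norm (V y ⊓ V z) (γ y z)) =
        ν.norm _ (res (X := X) _ (res (X := X) _ (res (X := X) _ (γ y z))))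
      rw [norm_res' ν, res_res, res_res]
      rfl)
  exact (Cocycle.isAmple_iff _ (e₃ ≪≫ e₄)).2 ⟨inferInstance, hdown⟩

end GrothLib.AmpSpread10
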