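import Groth.Agent.Lib.AmpSpread10.IndFibre
import Groth.Agent.Lib.AmpSpread10.Descend
import Groth.Agent.Lib.AmpSpread10.RelNorm
import Groth.Agent.Lib.LimDesc.Proper
import Groth.Agent.Lib.EtSite.FpqcDescent
import Groth.Agent.Lib.LocProp.Stalk
import Groth.Agent.S8878
import Groth.Agent.S4418
import Groth.Agent.S12416
import Mathlib.AlgebraicGeometry.Morphisms.FlatRank

/-!
# The loci of quasi-projective and of projective fibres are ind-constructible
-/

set_option autoImplicit false
set_option linter.all false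
set_option backward.isDefEq.respectTransparency false
set_option maxHeartbeats 2000000

universe u

open CategoryTheory CategoryTheory.Limits AlgebraicGeometry Opposite TopologicalSpace
open GrothLib.LimDesc

noncomputable section

namespace GrothLib.AmpSpread10

/-- Some module is relatively ample. -/
def HasRelAmple : MorphismProperty Scheme.{u} := fun _ _ f => ∃ L, RelAmple.IsRelAmple f L

instance : (HasRelAmple.{u}).IsStableUnderBaseChange where
  of_isPullback sq := fun ⟨L, hL⟩ => by
    haveI := hL.1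
    exact ⟨_, isRelAmple_of_square sq hL⟩

/-- Proper, with some module relatively ample. -/
def ProperRelAmple : MorphismProperty Scheme.{u} := fun _ _ f => IsProper f ∧ HasRelAmple f

instance : (ProperRelAmple.{u}).IsStableUnderBaseChange where
  of_isPullback sq := fun ⟨h1, h2⟩ =>
    ⟨MorphismProperty.of_isPullback (P := @IsProper) sq h1, MorphismProperty.of_isPullback (P := HasRelAmple) sq h2⟩

theorem descendsToStage_hasRelAmple : DescendsToStage HasRelAmple.{u} := by
  intro I _ _ D c hc _ i₀ _ _ X₀ Y₀ XT YT u v _ _ _ _ _ _ _ qY gT qX fT hY hX ⟨L, hL⟩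
  haveI : CompactSpace X₀ := QuasiCompact.compactSpace_of_compactSpace u
  haveI : QuasiSeparatedSpace X₀ := quasiSeparatedSpace_of_quasiSeparated u
  haveI : ∀ (j l : Over i₀) (χ : j ⟶ l), IsAffineHom ((diag D i₀ (u ≫ v)).map χ) :=
    fun j l χ => LimDesc.isAffineHom_map D i₀ (u ≫ v) χ
  haveI : ∀ j, CompactSpace ((diag D i₀ (u ≫ v)).obj j) := fun j => LimDesc.compactSpace_obj D i₀ (u ≫ v) j
  haveI : ∀ j, QuasiSeparatedSpace ((diag D i₀ (u ≫ v)).obj j) :=
    fun j => LimDesc.quasiSeparatedSpace_obj D i₀ (u ≫ v) j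
  obtain ⟨j, L₀, hL₀, ⟨e⟩⟩ := exists_stage_invertible (isLimitCone D i₀ (u ≫ v) (hX.paste_vert hY) hc)
    (Ample.isInvertible_of_isRelAmple hL)
  let u' := (mapNat D i₀ v (u ≫ v) u rfl).app j
  let v' := pullback.snd v (D.map j.hom)
  haveI : CompactSpace ((diag D i₀ v).obj j) := LimDesc.compactSpace_obj D i₀ v j
  haveI : QuasiCompact u' := MorphismProperty.of_isPullback (P := @QuasiCompact)
    (LimDesc.isPullback_mapNat D i₀ v (u ≫ v) u rfl j) inferInstance
  haveI : QuasiSeparated u' := MorphismProperty.of_isPullback (P := @QuasiSeparated)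
    (LimDesc.isPullback_mapNat D i₀ v (u ≫ v) u rfl j) inferInstance
  let rY := (cone D i₀ v hY).π.app j
  have hrY : IsPullback rY gT v' (c.π.app j.left) := by
    refine IsPullback.of_right ?_ (π_snd D i₀ v hY j) (IsPullback.of_hasPullback v (D.map j.hom))
    rw [π_fst, c.w]
    exact hY
  let rX := (cone D i₀ (u ≫ v) (hX.paste_vert hY)).π.app j
  have hrX : IsPullback rX fT u' rY :=
    LimDesc.isPullback_π D i₀ v (u ≫ v) hY u rfl (hX.paste_vert hY) fT hX.w.symm rfl j
  obtain ⟨k, hk⟩ := exists_stage_isRelAmple D hc u' v' hrY hrX hL₀ (RelProjK.isRelAmple_of_iso e hL)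
  refine ⟨Over.mk (k.hom ≫ j.hom), ?_⟩
  let k' : Over i₀ := Over.mk (k.hom ≫ j.hom)
  let φ : k' ⟶ j := Over.homMk k.hom rfl
  let uk' := (mapNat D i₀ v (u ≫ v) u rfl).app k'
  let uk := (mapNat D j.left v' (u' ≫ v') u' rfl).app k
  have sqk : IsPullback ((diag D i₀ (u ≫ v)).map φ) uk' u' ((diag D i₀ v).map φ) :=
    LimDesc.isPullback_mapNat_map D i₀ v (u ≫ v) u rfl φ
  let α : (diag D i₀ v).obj k' ⟶ (diag D j.left v').obj k :=
    pullback.lift ((diag D i₀ v).map φ) (pullback.snd v (D.map k'.hom))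
      ((LimDesc.isPullback_map D i₀ v φ).w)
  have hα : α ≫ pullback.fst v' (D.map k.hom) = (diag D i₀ v).map φ := pullback.lift_fst _ _ _
  have sq0 := LimDesc.isPullback_mapNat D j.left v' (u' ≫ v') u' rfl k
  obtain ⟨β, hβ₁, hβ₂⟩ := sq0.exists_lift ((diag D i₀ (u ≫ v)).map φ) (uk' ≫ α)
    (by rw [Category.assoc, hα]; exact sqk.w)
  have sq : IsPullback β uk' uk α := by
    refine IsPullback.of_right ?_ hβ₂ sq0
    rw [hβ₁, hα]
    exact sqk
  exact MorphismProperty.of_isPullback (P := HasRelAmple) sq ⟨_, hk⟩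

theorem descendsToStage_properRelAmple : DescendsToStage ProperRelAmple.{u} := by
  intro I _ _ D c hc _ i₀ _ _ X₀ Y₀ XT YT u v _ _ _ _ _ _ _ qY gT qX fT hY hX ⟨hp, hP⟩
  haveI : CompactSpace X₀ := QuasiCompact.compactSpace_of_compactSpace u
  haveI : QuasiSeparatedSpace X₀ := quasiSeparatedSpace_of_quasiSeparated u
  obtain ⟨j₁, h₁⟩ := LimDesc.exists_isProper D hc u v hY hX
  obtain ⟨j₂, h₂⟩ := descendsToStage_hasRelAmple D hc u v hY hX hP
  exact ⟨IsCofiltered.min j₁ j₂,
    MorphismProperty.of_isPullback (P := @IsProper)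
      (LimDesc.isPullback_mapNat_map D i₀ v (u ≫ v) u rfl (IsCofiltered.minToLeft j₁ j₂)) h₁,
    MorphismProperty.of_isPullback (P := HasRelAmple)
      (LimDesc.isPullback_mapNat_map D i₀ v (u ≫ v) u rfl (IsCofiltered.minToRight j₁ j₂)) h₂⟩

/-- Existence of a relatively ample module descends along extensions of fields. -/
theorem hasRelAmple_of_field {k K : Type u} [Field k] [Field K]
    (x₀ : Spec (CommRingCat.of K) ⟶ Spec (CommRingCat.of k))
    {X Y A B : Scheme.{u}} (f : X ⟶ Y) (h : Y ⟶ Spec (CommRingCat.of k))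
    [QuasiCompact f] [QuasiSeparated f] [LocallyOfFinitePresentation f] [QuasiCompact h] [QuasiSeparated h]
    {a : A ⟶ B} {p : A ⟶ X} {w : B ⟶ Y} {q : B ⟶ Spec (CommRingCat.of K)}
    (hwq : IsPullback w q h x₀) (hsq : IsPullback p a f w) (ha : HasRelAmple a) : HasRelAmple f := by
  obtain ⟨I, _, _, _, D, π, hl, hD, hDa, -⟩ := AbsApprox.exists_rel_approx x₀
  let S := Spec (CommRingCat.of k)
  let D' := D ⋙ Over.forget S
  let cD := (Over.forget S).mapCone (Cone.mk (Over.mk x₀) π)
  have hcD : IsLimit cD := isLimitOfPreserves (Over.forget _) hl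
  haveI : ∀ (i j : Iᵒᵖ) (a : i ⟶ j), IsAffineHom (D'.map a) := hDa
  obtain ⟨i₀⟩ : Nonempty Iᵒᵖ := inferInstance
  haveI : CompactSpace (D'.obj i₀) := (hD i₀).2.2.2.1
  haveI : QuasiSeparatedSpace (D'.obj i₀) := (hD i₀).2.2.2.2
  have hx : cD.π.app i₀ ≫ (D.obj i₀).hom = x₀ := Over.w (π.app i₀)
  let Y₀ := pullback h (D.obj i₀).hom
  let v : Y₀ ⟶ D'.obj i₀ := pullback.snd h (D.obj i₀).hom
  let c₀ : Y₀ ⟶ Y := pullback.fst h (D.obj i₀).hom
  let u := pullback.snd f c₀
  haveI : QuasiCompact v := MorphismProperty.pullback_snd _ _ inferInstance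
  haveI : QuasiSeparated v := MorphismProperty.pullback_snd _ _ inferInstance
  haveI : CompactSpace Y₀ := QuasiCompact.compactSpace_of_compactSpace v
  haveI : QuasiSeparatedSpace Y₀ := quasiSeparatedSpace_of_quasiSeparated v
  haveI : QuasiCompact u := MorphismProperty.pullback_snd _ _ inferInstance
  haveI : QuasiSeparated u := MorphismProperty.pullback_snd _ _ inferInstance
  haveI : LocallyOfFinitePresentation u := MorphismProperty.pullback_snd _ _ inferInstance
  let qY : B ⟶ Y₀ := pullback.lift w (q ≫ cD.π.app i₀) (by rw [Category.assoc, hx]; exact hwq.w)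
  have hY : IsPullback qY q v (cD.π.app i₀) := by
    refine IsPullback.of_right ?_ (pullback.lift_snd _ _ _) (IsPullback.of_hasPullback h (D.obj i₀).hom)
    rw [pullback.lift_fst, hx]
    exact hwq
  let qX : A ⟶ pullback f c₀ := pullback.lift p (a ≫ qY) (by rw [Category.assoc, pullback.lift_fst]; exact hsq.w)
  have hX : IsPullback qX a u qY := by
    refine IsPullback.of_right ?_ (pullback.lift_snd _ _ _) (IsPullback.of_hasPullback f c₀)
    rw [pullback.lift_fst, show qY ≫ c₀ = w from pullback.lift_fst _ _ _]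
    exact hsq
  obtain ⟨m, hm⟩ := descendsToStage_hasRelAmple D' hcD u v hY hX ha
  -- a closed point of the stage
  let y : D'.obj m.left ⟶ S := (D.obj m.left).hom
  haveI : LocallyOfFinitePresentation y := (hD m.left).1
  haveI : Nonempty ↥(D'.obj m.left) :=
    ⟨cD.π.app m.left (IsLocalRing.closedPoint K : Spec (CommRingCat.of K))⟩
  haveI : CompactSpace (D'.obj m.left) := (hD m.left).2.2.2.1
  obtain ⟨z, -, hz⟩ := (isClosed_univ : IsClosed (Set.univ : Set (D'.obj m.left))).exists_closed_singleton Set.univ_nonempty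
  haveI : JacobsonSpace (D'.obj m.left) := LocallyOfFiniteType.jacobsonSpace y
  haveI := isClosed_singleton_iff_isClosedImmersion.mp hz
  let xz := (D'.obj m.left).fromSpecResidueField z
  let t := xz ≫ y
  haveI : IsFinite t := isFinite_iff_locallyOfFiniteType_of_jacobsonSpace.mpr inferInstance
  haveI : Flat t := by
    obtain ⟨φ, hφ⟩ := Spec.map_surjective t
    rw [← hφ, HasRingHomProperty.Spec_iff (P := @Flat)]
    letI := φ.hom.toAlgebra
    exact RingHom.flat_algebraMap_iff.2 inferInstance
  haveI : LocallyOfFinitePresentation t := LocProp.locallyOfFinitePresentation_of_isLocallyNoetherian t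
  -- the finite covering
  let c₁ := pullback.fst h t
  haveI : IsFinite c₁ := MorphismProperty.pullback_fst (P := @IsFinite) _ _ inferInstance
  haveI : Flat c₁ := MorphismProperty.pullback_fst (P := @Flat) _ _ inferInstance
  haveI : LocallyOfFinitePresentation c₁ :=
    MorphismProperty.pullback_fst (P := @LocallyOfFinitePresentation) _ _ inferInstance
  let p₁ := pullback.fst f c₁
  let f₁ := pullback.snd f c₁
  haveI : IsFinite p₁ := MorphismProperty.pullback_fst (P := @IsFinite) _ _ inferInstance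
  let s₀ : S := t (default : Spec ((D'.obj m.left).residueField z))
  haveI : Subsingleton ↥S := inferInstanceAs (Subsingleton (PrimeSpectrum k))
  have hdeg : Mor2.IsFinLocFreeOfDeg (t.finrank s₀) p₁ :=
    ⟨⟨inferInstance, MorphismProperty.pullback_fst (P := @Flat) _ _ inferInstance,
      MorphismProperty.pullback_fst (P := @LocallyOfFinitePresentation) _ _ inferInstance⟩, fun x => by
      rw [Scheme.Hom.finrank_pullback_fst, Scheme.Hom.finrank_pullback_fst, Subsingleton.elim (h (f x)) s₀]⟩
  obtain ⟨ν⟩ := Groth.Agent.S8878.result p₁ _ (Scheme.Hom.one_le_finrank_map t _) hdeg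
  -- the ample module on the fibre of the stage
  have hf₁ : HasRelAmple f₁ := by
    let b : pullback h t ⟶ Y₀ := pullback.lift c₁ (pullback.snd h t ≫ xz ≫ D'.map m.hom) (by
      rw [Category.assoc, Category.assoc, show D'.map m.hom ≫ (D.obj i₀).hom = y from Over.w (D.map m.hom)]
      exact pullback.condition)
    let bm : pullback h t ⟶ (diag D' i₀ v).obj m := pullback.lift b (pullback.snd h t ≫ xz) (by
      rw [pullback.lift_snd]; simp only [Category.assoc])
    have hbm : bm ≫ pullback.fst v (D'.map m.hom) ≫ c₀ = c₁ := by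
      rw [pullback.lift_fst_assoc, pullback.lift_fst]
    have sq0 := (LimDesc.isPullback_mapNat D' i₀ v (u ≫ v) u rfl m).paste_horiz (IsPullback.of_hasPullback f c₀)
    obtain ⟨r, hr₁, hr₂⟩ := sq0.exists_lift p₁ (f₁ ≫ bm) (by rw [Category.assoc, hbm]; exact pullback.condition)
    have sq1 : IsPullback r f₁ ((mapNat D' i₀ v (u ≫ v) u rfl).app m) bm := by
      refine IsPullback.of_right ?_ hr₂ sq0
      rw [hr₁, hbm]
      exact IsPullback.of_hasPullback f c₁
    exact MorphismProperty.of_isPullback (P := HasRelAmple) sq1 hm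
  obtain ⟨L, hL⟩ := hf₁
  haveI := hL.1
  have hL' : RelAmple.IsRelAmple (p₁ ≫ f) L := by
    rw [show p₁ ≫ f = f₁ ≫ c₁ from pullback.condition]
    exact ⟨inferInstance, fun V => hL.2 ⟨c₁ ⁻¹ᵁ V.1, V.2.preimage c₁⟩⟩
  exact exists_isRelAmple_of_norm ν f hL'

section Fibres

variable {X Y S : Scheme.{u}} (f : X ⟶ Y) (g : Y ⟶ S) [QuasiCompact g] [QuasiSeparated g]
  [QuasiCompact f] [QuasiSeparated f] [LocallyOfFinitePresentation f]

theorem descendsAlongFieldExt_hasRelAmple : DescendsAlongFieldExt f g HasRelAmple := by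
  intro s K _ ρ A B a p w q hwq hsq ha
  have H := isPullback_bcMap f g (S.fromSpecResidueField s)
  haveI : QuasiCompact (bcMap f g (S.fromSpecResidueField s)) :=
    MorphismProperty.of_isPullback (P := @QuasiCompact) H inferInstance
  haveI : QuasiSeparated (bcMap f g (S.fromSpecResidueField s)) :=
    MorphismProperty.of_isPullback (P := @QuasiSeparated) H inferInstance
  haveI : LocallyOfFinitePresentation (bcMap f g (S.fromSpecResidueField s)) :=
    MorphismProperty.of_isPullback (P := @LocallyOfFinitePresentation) H inferInstance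
  exact hasRelAmple_of_field (k := S.residueField s) ρ _ (pullback.snd g (S.fromSpecResidueField s)) hwq hsq ha

theorem descendsAlongFieldExt_properRelAmple : DescendsAlongFieldExt f g ProperRelAmple := by
  intro s K _ ρ A B a p w q hwq hsq ha
  refine ⟨?_, descendsAlongFieldExt_hasRelAmple f g s K ρ A B a p w q hwq hsq ha.2⟩
  refine descendsAlongFieldExt_of (P := @IsProper) f g ?_ s K ρ A B a p w q hwq hsq ha.1
  intro A B A' B' a a' p w _ _ _ _ sq hp
  exact MorphismProperty.of_isPullback_of_descendsAlong (P := @IsProper) (Q := EtSite.fpqcCov)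
    sq.flip ⟨⟨‹_›, ‹_›⟩, ‹_›⟩ hp

end Fibres

theorem isProjective_iff {X Y : Scheme.{u}} (f : X ⟶ Y) [CompactSpace Y] [QuasiSeparatedSpace Y] :
    RelProj.IsProjective f ↔ ProperRelAmple f := by
  constructor
  · intro h
    obtain ⟨⟨_, _, hL⟩, hp⟩ := Groth.Agent.S4418.result f h
    exact ⟨hp, hL⟩
  · rintro ⟨hp, hL⟩
    exact Groth.Agent.S12416.result f ⟨inferInstance, inferInstance, hL⟩

end GrothLib.AmpSpread10
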