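import Groth.Agent.Lib.AmpSpread10.Approx
import Groth.Agent.Lib.HilbDesc10.Local

/-!
# Relative ampleness and ampleness on the fibres
-/

set_option autoImplicit false
set_option linter.all false
set_option backward.isDefEq.respectTransparency false
set_option maxHeartbeats 1000000

universe u

open CategoryTheory CategoryTheory.Limits AlgebraicGeometry Opposite TopologicalSpace

noncomputable section

namespace GrothLib.AmpSpread10

variable {X Y : Scheme.{u}} (f : X ⟶ Y) [IsProper f]

/-- Ampleness on a fibre gives relative ampleness over a neighbourhood. -/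
theorem exists_isRelAmple_nhd {L : X.Modules} (hL : PicF.IsInvertible L) (y : Y)
    (hy : CohB1.IsAmple ((Scheme.Modules.pullback (f.fiberι y)).obj L)) :
    ∃ V : Y.Opens, y ∈ V ∧ RelAmple.IsRelAmple (f ∣_ V) (L.restrict (f ⁻¹ᵁ V).ι) := by
  obtain ⟨V, hyV, h⟩ := exists_isAmple_nhd' f hL y hy
  refine ⟨V, hyV, inferInstance, fun T => ?_⟩
  let U := (f ∣_ V) ⁻¹ᵁ T.1
  let U' : X.Opens := (U.ι ≫ (f ⁻¹ᵁ V).ι).opensRange
  have hUc : IsCompact (U : Set (f ⁻¹ᵁ V : Scheme.{u})) := QuasiCompact.isCompact_preimage _ T.1.2 T.2.isCompact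
  haveI : CompactSpace (U : Scheme.{u}) := isCompact_iff_compactSpace.mp hUc
  have hU'c : IsCompact (U' : Set X) := by
    show IsCompact (Set.range (U.ι ≫ (f ⁻¹ᵁ V).ι))
    exact isCompact_range (Scheme.Hom.continuous _)
  have h1 := (Ample.isAmple_restrict_iff U'.ι L).1 (h U' hU'c (by
    rintro _ ⟨z, rfl⟩
    exact (U.ι z).2))
  rw [Ample.isAmple_restrict_iff]
  refine (Ample.isAmple_iff_of_iso (((Scheme.Modules.pullbackComp U.ι (f ⁻¹ᵁ V).ι).app L).symm ≪≫
    (Scheme.Modules.pullback U.ι).mapIso ((Scheme.Modules.restrictFunctorIsoPullback (f ⁻¹ᵁ V).ι).app L).symm)).1 ?_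
  exact Ample.isAmple_pullback_of_range_le _ U'.ι (by rw [U'.range_ι]; exact le_rfl) h1

/-- **Relative ampleness of a proper morphism is ampleness on every fibre.** -/
theorem isRelAmple_iff_forall_fibre {L : X.Modules} (hL : PicF.IsInvertible L) :
    RelAmple.IsRelAmple f L ↔ ∀ s : Y, CohB1.IsAmple ((Scheme.Modules.pullback (f.fiberι s)).obj L) := by
  constructor
  · intro h s
    obtain ⟨_, ⟨W, hW, rfl⟩, hsW, -⟩ :=
      Y.isBasis_affineOpens.exists_subset_of_mem_open (Set.mem_univ s) isOpen_univ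
    have hA := HilbDesc10.isAmple_pullback_fst f h hW
    let p := hW.primeIdealOf ⟨s, hsW⟩
    obtain ⟨x₀, hx₀⟩ : ∃ x₀ : Spec (Y.residueField s) ⟶ Spec Γ(Y, W), x₀ ≫ hW.fromSpec = Y.fromSpecResidueField s := by
      refine ⟨IsOpenImmersion.lift hW.fromSpec (Y.fromSpecResidueField s) ?_, IsOpenImmersion.lift_fac _ _ _⟩
      rw [Scheme.range_fromSpecResidueField, hW.range_fromSpec]
      exact Set.singleton_subset_iff.2 hsW
    have hw : f.fiberι s ≫ f = (f.fiberToSpecResidueField s ≫ x₀) ≫ hW.fromSpec := by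
      rw [Category.assoc, hx₀]
      exact Scheme.Hom.fiber_fac f s
    let t : f.fiber s ⟶ pullback f hW.fromSpec := pullback.lift _ _ hw
    haveI : IsAffineHom t := by
      have sq : IsPullback t (f.fiberToSpecResidueField s) (pullback.snd f hW.fromSpec) x₀ := by
        refine IsPullback.of_right ?_ (pullback.lift_snd _ _ hw) (IsPullback.of_hasPullback _ _)
        rw [pullback.lift_fst, hx₀]
        exact IsPullback.of_hasPullback f (Y.fromSpecResidueField s)
      exact MorphismProperty.of_isPullback (P := @IsAffineHom) sq.flip (isAffineHom_of_isAffine _)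
    have h1 := Ample.isAmple_pullback_of_isAffineHom t hA
    rw [Ample.isAmple_pullback_comp_iff, pullback.lift_fst] at h1
    exact h1
  · intro h
    refine Ample.isRelAmple_of_cover fun y => ?_
    obtain ⟨V, hyV, hV⟩ := exists_isAmple_nhd' f hL y (h y)
    obtain ⟨_, ⟨O, hO, rfl⟩, hyO, hOV⟩ := Y.isBasis_affineOpens.exists_subset_of_mem_open hyV V.2
    exact ⟨O, hyO, hO, hV _ (QuasiCompact.isCompact_preimage _ O.2 hO.isCompact) fun x hx => hOV hx⟩

end GrothLib.AmpSpread10
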