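import Groth.Agent.Lib.Ample.CocPullback
import Groth.Agent.Lib.ModDesc.Descend

/-!
# Loci of sections of an invertible module descend along limits
-/

set_option autoImplicit false
set_option linter.all false
set_option backward.isDefEq.respectTransparency false
set_option maxHeartbeats 2000000

universe u

open CategoryTheory CategoryTheory.Limits AlgebraicGeometry Opposite TopologicalSpace
open GrothLib.Ample

noncomputable section

namespace GrothLib.AmpSpread10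

variable {I : Type u} [SmallCategory I] [IsCofiltered I] {D : I ⥤ Scheme.{u}} {c : Cone D} (hc : IsLimit c)
  [∀ (i j : I) (φ : i ⟶ j), IsAffineHom (D.map φ)]

include hc in
/-- Finitely many equations between functions on compact opens hold at a stage once they hold in the limit. -/
theorem exists_stage_eq {j : I} {τ : Type*} (O : τ → (D.obj j).Opens) (hO : ∀ x, IsCompact (O x : Set (D.obj j)))
    (s t : ∀ x, Γ(D.obj j, O x)) (h : ∀ x, (c.π.app j).app (O x) (s x) = (c.π.app j).app (O x) (t x))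
    (S : Finset τ) :
    ∃ (l : I) (ψ : l ⟶ j), ∀ x ∈ S, (D.map ψ).app (O x) (s x) = (D.map ψ).app (O x) (t x) := by
  classical
  induction S using Finset.induction_on with
  | empty => exact ⟨j, 𝟙 _, fun x hx => absurd hx (Finset.notMem_empty x)⟩
  | insert x S _ ih =>
    obtain ⟨l₁, ψ₁, h₁⟩ := ih
    obtain ⟨l₂, ψ₂, h₂⟩ := exists_app_map_eq_map_of_isLimit D c hc (hO x) (s x) (t x) (h x)
    let q := IsCofiltered.min (Over.mk ψ₁) (Over.mk ψ₂)
    let q₁ := IsCofiltered.minToLeft (Over.mk ψ₁) (Over.mk ψ₂)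
    let q₂ := IsCofiltered.minToRight (Over.mk ψ₁) (Over.mk ψ₂)
    refine ⟨q.left, q.hom, fun y hy => ?_⟩
    have key : ∀ {m : I} (χ : m ⟶ j) (p : q.left ⟶ m), p ≫ χ = q.hom →
        (D.map χ).app (O y) (s y) = (D.map χ).app (O y) (t y) →
        (D.map q.hom).app (O y) (s y) = (D.map q.hom).app (O y) (t y) := by
      intro m χ p hp he
      have e1 := Scheme.Hom.congr_app ((congrArg D.map hp).symm.trans (D.map_comp p χ)) (O y)
      rw [e1]
      simp only [Scheme.Hom.comp_app, CommRingCat.comp_apply, he]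
    rcases Finset.mem_insert.1 hy with rfl | hy'
    · exact key ψ₂ q₂.left (Over.w q₂) h₂
    · exact key ψ₁ q₁.left (Over.w q₁) (h₁ y hy')

omit hc in
/-- Compatible functions on pieces of the trivialisations glue to a section of a twist. -/
theorem exists_glue_sect {X : Scheme.{u}} (c₂ : Cocycle X) (m : ℕ) {T : Type u} (idx : T → c₂.ι) (V : T → X.Opens)
    (hVD : ∀ k, V k ≤ c₂.D (idx k)) (hcov : ⊤ ≤ iSup V) (a' : ∀ k, Γ(X, V k))
    (h : ∀ k l, res (inf_le_left : V k ⊓ V l ≤ V k) (a' k) =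
      c₂.G (idx k) (idx l) (inf_le_left.trans (hVD k)) (inf_le_right.trans (hVD l)) ^ m *
        res (inf_le_right : V k ⊓ V l ≤ V l) (a' l)) :
    ∃ a : c₂.sect m ⊤, ∀ k, res (le_inf le_top (hVD k)) (a.1 (idx k)) = a' k := by
  let σ : ∀ k : T, c₂.sect m (V k) := fun k => a' k • c₂.base m (idx k) (hVD k)
  let F : TopCat.Sheaf AddCommGrpCat.{u} X.carrier := ⟨c₂.sectAb m, c₂.isSheaf_sectAb⟩
  obtain ⟨a, ha, -⟩ := TopCat.Sheaf.existsUnique_gluing' F V ⊤ (fun k => homOfLE le_top) hcov σ (fun k l => by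
    show c₂.sectRes inf_le_left (σ k) = c₂.sectRes inf_le_right (σ l)
    simp only [σ, Cocycle.sectRes_smul, Cocycle.sectRes_base]
    rw [c₂.base_eq_smul_base m (idx k) (idx l) (inf_le_left.trans (hVD k)) (inf_le_right.trans (hVD l)),
      smul_smul, h k l, mul_comm])
  refine ⟨(show c₂.sect m ⊤ from a), fun k => ?_⟩
  have h2 := congrArg (fun w : c₂.sect m (V k) => res (le_inf le_rfl (hVD k)) (w.1 (idx k))) (ha k)
  simp only [σ, Cocycle.smul_apply, Cocycle.base_self, mul_one, res_res, res_self] at h2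
  refine Eq.trans ?_ h2
  show res _ _ = res _ (res _ _)
  rw [res_res]

include hc in
/-- The values of finitely many sections on the pieces descend compatibly. -/
theorem exists_values_stage (i₀ : I) [QuasiSeparatedSpace (D.obj i₀)]
    (c₀ : Cocycle (D.obj i₀)) {κ : Type u} [Finite κ] (m : κ → ℕ)
    (b : ∀ x, (c₀.comap (c.π.app i₀)).sect (m x) ⊤) {T : Type u} [Finite T] (idx : T → c₀.ι)
    (W : T → (D.obj i₀).Opens) (hWD : ∀ k, W k ≤ c₀.D (idx k)) (hW : ∀ k, IsAffineOpen (W k)) :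
    ∃ (l : I) (φ : l ⟶ i₀) (a' : κ → ∀ k, Γ(D.obj l, D.map φ ⁻¹ᵁ W k))
      (e : ∀ k, c.π.app i₀ ⁻¹ᵁ W k ≤ c.π.app l ⁻¹ᵁ (D.map φ ⁻¹ᵁ W k)),
      (∀ x k k', res inf_le_left (a' x k) =
        (c₀.comap (D.map φ)).G (idx k) (idx k') (inf_le_left.trans ((D.map φ).preimage_mono (hWD k)))
          (inf_le_right.trans ((D.map φ).preimage_mono (hWD k'))) ^ m x *
        res (inf_le_right : D.map φ ⁻¹ᵁ W k ⊓ D.map φ ⁻¹ᵁ W k' ≤ _) (a' x k')) ∧
      ∀ x k, ((c.π.app l).appLE _ _ (e k)).hom (a' x k) =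
        res (le_inf le_top ((c.π.app i₀).preimage_mono (hWD k))) ((b x).1 (idx k)) := by
  classical
  haveI := Fintype.ofFinite κ
  haveI := Fintype.ofFinite T
  let π₀ : c.pt ⟶ D.obj i₀ := c.π.app i₀
  let bv : ∀ q : κ × T, Γ(c.pt, π₀ ⁻¹ᵁ W q.2) := fun q =>
    res (le_inf le_top (π₀.preimage_mono (hWD q.2))) ((b q.1).1 (idx q.2))
  obtain ⟨j, φ, hj⟩ := ModDesc.exists_common_stage D c hc i₀ (fun q : κ × T => W q.2) (fun q => hW _)
    bv Finset.univ
  choose e av hav using fun q => hj q (Finset.mem_univ q)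
  let c₁ := c₀.comap (D.map φ)
  let O : κ × T × T → (D.obj j).Opens := fun q => D.map φ ⁻¹ᵁ W q.2.1 ⊓ D.map φ ⁻¹ᵁ W q.2.2
  haveI : QuasiSeparatedSpace (D.obj j) := quasiSeparatedSpace_of_quasiSeparated (D.map φ)
  have hO : ∀ q, IsCompact (O q : Set (D.obj j)) := fun q =>
    QuasiSeparatedSpace.inter_isCompact _ _ (Opens.isOpen _) ((hW q.2.1).preimage _).isCompact
      (Opens.isOpen _) ((hW q.2.2).preimage _).isCompact
  let sv : ∀ q, Γ(D.obj j, O q) := fun q => res (inf_le_left : O q ≤ _) (av (q.1, q.2.1))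
  let tv : ∀ q, Γ(D.obj j, O q) := fun q =>
    c₁.G (idx q.2.1) (idx q.2.2) (inf_le_left.trans ((D.map φ).preimage_mono (hWD _)))
      (inf_le_right.trans ((D.map φ).preimage_mono (hWD _))) ^ (m q.1) *
      res (inf_le_right : O q ≤ _) (av (q.1, q.2.2))
  have heq : ∀ q, (c.π.app j).app (O q) (sv q) = (c.π.app j).app (O q) (tv q) := by
    rintro ⟨x, k, l⟩
    have hk : c.π.app j ⁻¹ᵁ O (x, k, l) ≤ π₀ ⁻¹ᵁ W k := by
      show c.π.app j ⁻¹ᵁ (_ ⊓ _) ≤ _
      rw [Scheme.Hom.preimage_inf, ← Scheme.Hom.comp_preimage, c.w]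
      exact inf_le_left
    have hl : c.π.app j ⁻¹ᵁ O (x, k, l) ≤ π₀ ⁻¹ᵁ W l := by
      show c.π.app j ⁻¹ᵁ (_ ⊓ _) ≤ _
      rw [Scheme.Hom.preimage_inf, ← Scheme.Hom.comp_preimage (c.π.app j) (D.map φ) (W l), c.w]
      exact inf_le_right
    have hpull : ∀ (k' : T) (h : O (x, k, l) ≤ D.map φ ⁻¹ᵁ W k') (hk' : c.π.app j ⁻¹ᵁ O (x, k, l) ≤ π₀ ⁻¹ᵁ W k'),
        ((c.π.app j).appLE (O (x, k, l)) (c.π.app j ⁻¹ᵁ O (x, k, l)) le_rfl).hom (res h (av (x, k'))) =
          res (le_inf le_top (hk'.trans (π₀.preimage_mono (hWD _)))) ((b x).1 (idx k')) := by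
      intro k' h hk'
      refine (appLE_res _ _ _ _).trans ((res_appLE _ hk' (e (x, k')) _).symm.trans ?_)
      refine (congrArg (res hk') (hav (x, k'))).trans ?_
      exact res_res _ _ _
    rw [Scheme.Hom.app_eq_appLE]
    simp only [sv, tv, map_mul, map_pow]
    refine Eq.trans (hpull k inf_le_left hk) ?_
    refine Eq.trans ((b x).2 (idx k) (idx l) _ (le_inf le_top (hk.trans (π₀.preimage_mono (hWD _))))
      (le_inf le_top (hl.trans (π₀.preimage_mono (hWD _))))) ?_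
    refine congrArg₂ (· * ·) (congrArg (· ^ m x) ?_) (hpull l inf_le_right hl).symm
    refine Eq.trans ?_ (Cocycle.appLE_G c₁ (c.π.app j) _ _ _ _ _).symm
    rw [Cocycle.comap_G, Cocycle.comap_G]
    show _ = ((c.π.app j).appLE _ _ _).hom (((D.map φ).appLE _ _ _).hom (c₀.g _ _))
    simp only [← CommRingCat.comp_apply, Scheme.Hom.appLE_comp_appLE, c.w]
    rfl
  obtain ⟨l, ψ, hψ⟩ := exists_stage_eq hc O hO sv tv heq Finset.univ
  have hV : ∀ k : T, D.map (ψ ≫ φ) ⁻¹ᵁ W k ≤ D.map ψ ⁻¹ᵁ (D.map φ ⁻¹ᵁ W k) := fun k => by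
    rw [← Scheme.Hom.comp_preimage, ← D.map_comp]
  refine ⟨l, ψ ≫ φ, fun x k => ((D.map ψ).appLE _ _ (hV k)).hom (av (x, k)), fun k => le_of_eq (by
    rw [← Scheme.Hom.comp_preimage, c.w]), fun x k k' => ?_, fun x k => ?_⟩
  · have hVO : D.map (ψ ≫ φ) ⁻¹ᵁ W k ⊓ D.map (ψ ≫ φ) ⁻¹ᵁ W k' ≤ D.map ψ ⁻¹ᵁ O (x, k, k') := by
      rw [Scheme.Hom.preimage_inf]
      exact inf_le_inf (hV k) (hV k')
    have h0 := congrArg (res hVO) (hψ (x, k, k') (Finset.mem_univ _))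
    rw [Scheme.Hom.app_eq_appLE] at h0
    simp only [sv, tv, map_mul, map_pow] at h0
    refine Eq.trans (res_appLE _ _ _ _) ?_
    refine Eq.trans ?_ (h0.trans ?_)
    · exact ((congrArg (res hVO) (appLE_res _ _ _ _)).trans (res_appLE _ _ _ _)).symm
    refine congrArg₂ (· * ·) (congrArg (· ^ m x) ?_) ?_
    · rw [Cocycle.appLE_G, Cocycle.res_G, Cocycle.comap_G, Cocycle.comap_G]
      show ((D.map ψ).appLE _ _ _).hom (((D.map φ).appLE _ _ _).hom (c₀.g _ _)) = _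
      simp only [← CommRingCat.comp_apply, Scheme.Hom.appLE_comp_appLE, D.map_comp]
    · exact ((congrArg (res hVO) (appLE_res _ _ _ _)).trans (res_appLE _ _ _ _)).trans (res_appLE _ _ _ _).symm
  · refine Eq.trans ?_ (hav (x, k))
    simp only [← CommRingCat.comp_apply, Scheme.Hom.appLE_comp_appLE, c.w]
    rfl

include hc in
/-- **Finitely many loci descend to a stage.** -/
theorem exists_sect_stage (i₀ : I) [CompactSpace (D.obj i₀)] [QuasiSeparatedSpace (D.obj i₀)]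
    (c₀ : Cocycle (D.obj i₀)) {κ : Type u} [Finite κ] (m : κ → ℕ)
    (b : ∀ x, (c₀.comap (c.π.app i₀)).sect (m x) ⊤) :
    ∃ (l : I) (φ : l ⟶ i₀), ∀ x, ∃ a : (c₀.comap (D.map φ)).sect (m x) ⊤,
      c.π.app l ⁻¹ᵁ (c₀.comap (D.map φ)).locus a = (c₀.comap (c.π.app i₀)).locus (b x) := by
  classical
  let π₀ : c.pt ⟶ D.obj i₀ := c.π.app i₀
  choose idx W hpW hWD hW using fun p : D.obj i₀ => c₀.exists_affine_le_D p
  obtain ⟨T, hT⟩ := (isCompact_univ : IsCompact (Set.univ : Set (D.obj i₀))).elim_finite_subcover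
    (fun p => (W p : Set (D.obj i₀))) (fun p => (W p).2) fun p _ => Set.mem_iUnion.2 ⟨p, hpW p⟩
  obtain ⟨l, φ', a', el, hcomp, hval⟩ := exists_values_stage hc i₀ c₀ m b (fun p : T => idx p.1)
    (fun p : T => W p.1) (fun p => hWD p.1) (fun p => hW p.1)
  let c₂ := c₀.comap (D.map φ')
  let V : T → (D.obj l).Opens := fun k => D.map φ' ⁻¹ᵁ W k.1
  have hVD : ∀ k : T, V k ≤ c₂.D (idx k.1) := fun k => (D.map φ').preimage_mono (hWD _)
  have hcov : (⊤ : (D.obj l).Opens) ≤ iSup V := fun z _ => by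
    obtain ⟨p, hp, hz⟩ := Set.mem_iUnion₂.1 (hT (Set.mem_univ (D.map φ' z)))
    exact Opens.mem_iSup.2 ⟨⟨p, hp⟩, hz⟩
  refine ⟨l, φ', fun x => ?_⟩
  obtain ⟨a, ha⟩ := exists_glue_sect c₂ (m x) (fun p : T => idx p.1) V hVD hcov (a' x) (hcomp x)
  refine ⟨a, ?_⟩
  ext z
  obtain ⟨p, hp, hz⟩ := Set.mem_iUnion₂.1 (hT (Set.mem_univ (π₀ z)))
  have hzl : c.π.app l z ∈ V ⟨p, hp⟩ := el ⟨p, hp⟩ hz
  have hzi : z ∈ (c₀.comap π₀).D (idx p) := hWD p hz
  have hzD : c.π.app l z ∈ c₂.D (idx p) := hVD ⟨p, hp⟩ hzl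
  simp only [SetLike.mem_coe]
  rw [(c₀.comap π₀).mem_locus_iff (b x) hzi]
  show c.π.app l z ∈ c₂.locus a ↔ _
  rw [c₂.mem_locus_iff _ hzD]
  have h := congrArg c.pt.basicOpen (hval x ⟨p, hp⟩)
  rw [← ha ⟨p, hp⟩] at h
  erw [Scheme.basicOpen_appLE] at h
  erw [Scheme.basicOpen_res, Scheme.basicOpen_res] at h
  have h' := SetLike.ext_iff.1 h z
  exact ⟨fun hh => (h'.1 ⟨hz, hzl, hh⟩).2, fun hh => ((h'.2 ⟨hz, hh⟩).2).2⟩

end GrothLib.AmpSpread10
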