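import Groth.Agent.Lib.VA.Extend
import Groth.Agent.Lib.Ample.Finite
import Groth.Agent.Lib.Cohom.AffineSections

/-!
# Invertible modules are trivial near a finite set of an affine scheme
-/

set_option autoImplicit false
set_option linter.all false
set_option backward.isDefEq.respectTransparency false
set_option maxHeartbeats 1000000

universe u

open CategoryTheory CategoryTheory.Limits AlgebraicGeometry TopologicalSpace Opposite
open GrothLib.InvExt (mres IsGen)
open GrothLib.VA

noncomputable section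

namespace GrothLib.AmpSpread10

variable {X : Scheme.{u}}

theorem not_genAt_zero {L : X.Modules} (hL : PicF.IsInvertible L) {V : X.Opens} {x : X} :
    ¬ GenAt L (0 : Γ(L, V)) x := by
  intro h
  have h1 : GenAt L ((0 : Γ(X, V)) • (0 : Γ(L, V))) x := by rwa [zero_smul]
  have h2 := ((genAt_smul_iff hL (0 : Γ(X, V)) (0 : Γ(L, V))).1 h1).1
  rw [Scheme.basicOpen_zero] at h2
  exact h2

/-- On an affine open, some section generates at every point of a finite set. -/
theorem exists_section_genAt_finite {L : X.Modules} (hL : PicF.IsInvertible L) {U : X.Opens} (hU : IsAffineOpen U)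
    {Z : Set X} (hZ : Z.Finite) (hZU : Z ⊆ U) : ∃ t : Γ(L, U), ∀ z ∈ Z, GenAt L t z := by
  classical
  haveI : L.IsQuasicoherent := InvExt.isQuasicoherent_of_isInvertible hL
  obtain ⟨Z', hZ'Z, hdom, hanti⟩ := Ample.exists_sep_finite hZ
  -- separating functions
  have hsep : ∀ z : Z', ∃ h : Γ(X, U), (z : X) ∈ X.basicOpen h ∧ ∀ y : Z', y ≠ z → (y : X) ∉ X.basicOpen h := by
    intro z
    let T : Set X := ⋃ y ∈ Z'.filter (· ≠ z.1), closure {y}
    have hTc : IsClosed T := Set.Finite.isClosed_biUnion (Z'.filter (· ≠ z.1)).finite_toSet fun _ _ => isClosed_closure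
    have hzT : z.1 ∉ T := by
      intro hmem
      simp only [T, Set.mem_iUnion] at hmem
      obtain ⟨y, hy, hzy⟩ := hmem
      obtain ⟨hyZ, hne⟩ := Finset.mem_filter.mp hy
      exact hne (hanti y hyZ z.1 z.2 (specializes_iff_mem_closure.2 hzy))
    obtain ⟨h, hle, hz⟩ := hU.exists_basicOpen_le (V := (⟨Tᶜ, hTc.isOpen_compl⟩ : X.Opens))
      (⟨z.1, hzT⟩ : (⟨Tᶜ, hTc.isOpen_compl⟩ : X.Opens)) (hZU (hZ'Z z.2))
    refine ⟨h, hz, fun y hy hyh => hle hyh ?_⟩
    exact Set.mem_biUnion (Finset.mem_filter.2 ⟨y.2, fun e => hy (Subtype.ext e)⟩) (subset_closure rfl)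
  choose hf hzf hyf using hsep
  -- sections generating at single points
  have hone : ∀ z : Z', ∃ s : Γ(L, U), GenAt L s z.1 := by
    intro z
    obtain ⟨T, ε, hzT, hε⟩ := InvExt.exists_gen_nhd hL z.1
    obtain ⟨g, hle, hz⟩ := hU.exists_basicOpen_le (V := T) ⟨z.1, hzT⟩ (hZU (hZ'Z z.2))
    obtain ⟨n, s, hs⟩ := Cohom.exists_pow_smul_eq_map hU L g (mres L hle ε)
    refine ⟨s, ?_⟩
    have h1 : GenAt L (mres L (X.basicOpen_le g) s) z.1 := by
      rw [show mres L (X.basicOpen_le g) s = _ from hs, genAt_smul_iff hL]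
      refine ⟨?_, (genAt_mres hle ε).2 ⟨hz, ⟨T, le_rfl, hzT, by rwa [InvExt.mres_self]⟩⟩⟩
      cases n with
      | zero => rw [pow_zero, Scheme.basicOpen_of_isUnit _ isUnit_one]; exact hz
      | succ n => rw [Scheme.basicOpen_pow _ _ n.succ_pos, Scheme.basicOpen_res]; exact ⟨hz, hz⟩
    exact ((genAt_mres _ _).1 h1).2
  choose sz hsz using hone
  refine ⟨∑ z, hf z • sz z, fun w hw => ?_⟩
  have hmain : ∀ z : Z', GenAt L (∑ y, hf y • sz y) z.1 := by
    intro z
    rw [← Finset.add_sum_erase _ _ (Finset.mem_univ z)]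
    have hnot : ∀ S : Finset Z', z ∉ S → ¬ GenAt L (∑ y ∈ S, hf y • sz y) z.1 := by
      intro S
      induction S using Finset.induction_on with
      | empty => intro _; rw [Finset.sum_empty]; exact not_genAt_zero hL
      | insert y S hyS ih =>
        intro hzS h
        rw [Finset.sum_insert hyS] at h
        rcases genAt_add hL h with h | h
        · exact hyf y z (fun e => hzS (e ▸ Finset.mem_insert_self _ _)) ((genAt_smul_iff hL _ _).1 h).1
        · exact ih (fun e => hzS (Finset.mem_insert_of_mem e)) h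
    let t := hf z • sz z
    let t' := ∑ y ∈ Finset.univ.erase z, hf y • sz y
    have ht : GenAt L ((t + t') + (-1 : Γ(X, U)) • t') z.1 := by
      rw [neg_one_smul, add_neg_cancel_right]
      exact (genAt_smul_iff hL _ _).2 ⟨hzf z, hsz z⟩
    rcases genAt_add hL ht with h | h
    · exact h
    · exact absurd ((genAt_smul_iff hL _ _).1 h).2 (hnot _ (Finset.notMem_erase z _))
  obtain ⟨z', hz', hspec⟩ := hdom w hw
  exact mem_genOpen.1 (hspec.mem_open (genOpen L _).2 (mem_genOpen.2 (hmain ⟨z', hz'⟩)))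

end GrothLib.AmpSpread10
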