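import Groth.Agent.Lib.AmpSpread10.Local
import Groth.Agent.Lib.AmpSpread10.Lift

/-!
# Ampleness on a fibre spreads to a neighbourhood
-/

set_option autoImplicit false
set_option linter.all false
set_option backward.isDefEq.respectTransparency false
set_option maxHeartbeats 2000000

universe u

open CategoryTheory CategoryTheory.Limits AlgebraicGeometry Opposite TopologicalSpace
open IsLocalRing (maximalIdeal)

noncomputable section

namespace GrothLib.AmpSpread10

variable {X Y : Scheme.{u}} (f : X ⟶ Y) [IsProper f]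

/-- Over a locally Noetherian base, ampleness on a fibre gives ampleness over the local ring. -/
theorem isAmple_fromSpecStalk [IsLocallyNoetherian Y] {L : X.Modules} (hL : PicF.IsInvertible L) (y : Y)
    (hy : CohB1.IsAmple ((Scheme.Modules.pullback (f.fiberι y)).obj L)) :
    CohB1.IsAmple ((Scheme.Modules.pullback (pullback.fst f (Y.fromSpecStalk y))).obj L) := by
  let R := Y.presheaf.stalk y
  let f₁ : pullback f (Y.fromSpecStalk y) ⟶ Spec (CommRingCat.of R) := pullback.snd _ _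
  let sq := Spec.map (CommRingCat.ofHom (Ideal.Quotient.mk (maximalIdeal R)))
  have hw : f.fiberι y ≫ f = (f.fiberToSpecResidueField y ≫ sq) ≫ Y.fromSpecStalk y :=
    (Scheme.Hom.fiber_fac f y).trans (Category.assoc _ _ _).symm
  let j : f.fiber y ⟶ pullback f (Y.fromSpecStalk y) := pullback.lift _ _ hw
  have h : IsPullback j (f.fiberToSpecResidueField y) f₁ sq := by
    refine IsPullback.of_right ?_ (pullback.lift_snd _ _ hw)
      (IsPullback.of_hasPullback f (Y.fromSpecStalk y))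
    rw [pullback.lift_fst]
    exact IsPullback.of_hasPullback f (Y.fromSpecResidueField y)
  haveI : IsProper f₁ := inferInstance
  refine isAmple_of_closedFibre f₁ (Ample.isInvertible_pullback _ hL) h ?_
  rw [Ample.isAmple_pullback_comp_iff, pullback.lift_fst]
  exact hy

/-- **Ampleness on a fibre spreads to a neighbourhood.** -/
theorem exists_isAmple_nhd [IsLocallyNoetherian Y] {L : X.Modules} (hL : PicF.IsInvertible L) (y : Y)
    (hy : CohB1.IsAmple ((Scheme.Modules.pullback (f.fiberι y)).obj L)) :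
    ∃ V : Y.Opens, y ∈ V ∧ IsAffineOpen V ∧
      ∀ U : X.Opens, IsCompact (U : Set X) → U ≤ f ⁻¹ᵁ V → CohB1.IsAmple (L.restrict U.ι) := by
  classical
  obtain ⟨_, ⟨W, hW, rfl⟩, hyW, -⟩ :=
    Y.isBasis_affineOpens.exists_subset_of_mem_open (Set.mem_univ y) isOpen_univ
  let A := Γ(Y, W)
  let R := Y.presheaf.stalk y
  let γ : A ⟶ R := Y.presheaf.germ W y hyW
  letI : Algebra A R := γ.hom.toAlgebra
  let p : Spec A := hW.primeIdealOf ⟨y, hyW⟩
  haveI : IsLocalization.AtPrime R (hW.primeIdealOf ⟨y, hyW⟩).asIdeal := hW.isLocalization_stalk ⟨y, hyW⟩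
  haveI : Flat (Spec.map γ) := by
    rw [HasRingHomProperty.Spec_iff (P := @Flat)]
    show (algebraMap A R).Flat
    exact RingHom.flat_algebraMap_iff.2 (IsLocalization.flat R (hW.primeIdealOf ⟨y, hyW⟩).asIdeal.primeCompl)
  have hγ : Spec.map γ ≫ hW.fromSpec = Y.fromSpecStalk y := hW.fromSpecStalk_eq_fromSpecStalk hyW
  let X₀ := pullback f hW.fromSpec
  let k : X₀ ⟶ X := pullback.fst _ _
  let f₀ : X₀ ⟶ Spec (CommRingCat.of A) := pullback.snd _ _
  haveI : IsProper f₀ := inferInstance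
  let X' := pullback f (Y.fromSpecStalk y)
  let f' : X' ⟶ Spec R := pullback.snd _ _
  haveI : IsProper f' := inferInstance
  have hw : pullback.fst f (Y.fromSpecStalk y) ≫ f = (f' ≫ Spec.map γ) ≫ hW.fromSpec := by
    rw [Category.assoc, hγ]
    exact pullback.condition
  let j : X' ⟶ X₀ := pullback.lift _ _ hw
  have H : IsPullback j f' f₀ (Spec.map γ) := by
    refine IsPullback.of_right ?_ (pullback.lift_snd _ _ hw) (IsPullback.of_hasPullback f hW.fromSpec)
    rw [pullback.lift_fst, hγ]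
    exact IsPullback.of_hasPullback f (Y.fromSpecStalk y)
  haveI : CompactSpace X₀ := QuasiCompact.compactSpace_of_compactSpace f₀
  haveI : QuasiSeparatedSpace X₀ := quasiSeparatedSpace_of_quasiSeparated f₀
  haveI : CompactSpace X' := QuasiCompact.compactSpace_of_compactSpace f'
  haveI : IsLocallyNoetherian X := LocallyOfFiniteType.isLocallyNoetherian f
  haveI : IsLocallyNoetherian X₀ := LocallyOfFiniteType.isLocallyNoetherian k
  haveI : X₀.IsSeparated := ⟨by rw [← terminal.comp_from f₀]; infer_instance⟩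
  haveI : IsNoetherian X₀ := {}
  -- the cocycle
  obtain ⟨c, ⟨e⟩⟩ := Ample.exists_cocycle (Ample.isInvertible_pullback k hL)
  obtain ⟨e'⟩ := c.nonempty_pullback_iso j e
  have hamp : CohB1.IsAmple ((Scheme.Modules.pullback j).obj ((Scheme.Modules.pullback k).obj L)) := by
    rw [Ample.isAmple_pullback_comp_iff, pullback.lift_fst]
    exact isAmple_fromSpecStalk f hL y hy
  have hc' : (c.comap j).IsAmp := (((c.comap j).isAmple_iff e').1 hamp).2
  -- every function on the local scheme is a fraction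
  have hfrac : ∀ r : Γ(Spec R, ⊤), ∃ a s : Γ(Spec A, ⊤), IsUnit ((Spec.map γ).appLE ⊤ ⊤ le_top s) ∧
      r * (Spec.map γ).appLE ⊤ ⊤ le_top s = (Spec.map γ).appLE ⊤ ⊤ le_top a := by
    have e1 : ∀ a : A, (Spec.map γ).appLE ⊤ ⊤ le_top ((Scheme.ΓSpecIso A).inv a) = (Scheme.ΓSpecIso R).inv (γ a) := by
      intro a
      have := congrArg (fun φ => φ a) (Scheme.ΓSpecIso_inv_naturality γ)
      refine Eq.trans ?_ this.symm
      simp only [Scheme.Hom.app_eq_appLE, CommRingCat.comp_apply]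
      rfl
    intro r
    obtain ⟨⟨a, s⟩, has⟩ := IsLocalization.surj (hW.primeIdealOf ⟨y, hyW⟩).asIdeal.primeCompl
      ((Scheme.ΓSpecIso R).hom r)
    refine ⟨(Scheme.ΓSpecIso A).inv a, (Scheme.ΓSpecIso A).inv s, ?_, ?_⟩
    · rw [e1]
      exact (IsLocalization.map_units R s).map _
    · rw [e1, e1]
      have h2 := congrArg (Scheme.ΓSpecIso R).inv has
      rw [map_mul, Iso.hom_inv_id_apply] at h2
      exact h2
  -- generisations come from the local scheme
  have hrange : ∀ z : X₀, f₀ z ⤳ p → z ∈ Set.range j := by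
    intro z hz
    have h1 : hW.fromSpec (f₀ z) ⤳ y := by
      have := hz.map hW.fromSpec.continuous
      rwa [show hW.fromSpec p = y from hW.fromSpec_primeIdealOf ⟨y, hyW⟩] at this
    have h2 : k z ∈ Set.range (pullback.fst f (Y.fromSpecStalk y)) := by
      rw [Scheme.Pullback.range_fst, Set.mem_preimage, Scheme.range_fromSpecStalk]
      show f (k z) ⤳ y
      rw [← Scheme.Hom.comp_apply, pullback.condition]
      exact h1
    obtain ⟨x', hx'⟩ := h2
    refine ⟨x', k.isOpenEmbedding.injective ?_⟩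
    rw [← Scheme.Hom.comp_apply]
    exact (congrArg (fun φ : X' ⟶ X => φ x') (pullback.lift_fst _ _ hw)).trans hx'
  -- affine loci over the generisations
  have key : ∀ x' : X', ∃ (n : ℕ) (a : c.sect (n + 1) ⊤) (g : A), j x' ∈ c.locus a ∧
      p ∈ PrimeSpectrum.basicOpen g ∧ IsAffineOpen (c.locus a ⊓ f₀ ⁻¹ᵁ PrimeSpectrum.basicOpen g) := by
    intro x'
    obtain ⟨_, ⟨V, hV, rfl⟩, hxV, -⟩ :=
      X₀.isBasis_affineOpens.exists_subset_of_mem_open (Set.mem_univ (j x')) isOpen_univ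
    obtain ⟨n, b, hxb, hbV, -⟩ := (c.comap j).exists_affine_locus_le hc' (O := j ⁻¹ᵁ V) hxV
    obtain ⟨a, ha⟩ := c.exists_locus_comap_eq j H hfrac b
    rw [ha] at hxb hbV
    obtain ⟨g, hg, hle⟩ := exists_basicOpen_inf_le f₀ p (O := c.locus a) (U := V)
      (NoetherianSpace.isCompact _) fun z hz hzp => by
        obtain ⟨z', rfl⟩ := hrange z hzp
        exact hbV hz
    refine ⟨n, a, g, hxb, hg, ?_⟩
    have hVg : IsAffineOpen (V ⊓ f₀ ⁻¹ᵁ PrimeSpectrum.basicOpen g) := isAffineOpen_inf_preimage f₀ hV g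
    rw [show c.locus a ⊓ f₀ ⁻¹ᵁ PrimeSpectrum.basicOpen g =
      c.locus a ⊓ (V ⊓ f₀ ⁻¹ᵁ PrimeSpectrum.basicOpen g) from
      le_antisymm (le_inf inf_le_left (le_inf hle inf_le_right)) (inf_le_inf_left _ inf_le_right)]
    exact c.isAffineOpen_locus_inf a hVg
  choose n a g hxa hg haff using key
  obtain ⟨g₀, hg₀, hcov⟩ := exists_basicOpen_inf_le f₀ p (O := ⊤) (U := ⨆ x', c.locus (a x'))
    isCompact_univ fun z _ hzp => by
      obtain ⟨z', rfl⟩ := hrange z hzp
      exact Opens.mem_iSup.2 ⟨z', hxa z'⟩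
  obtain ⟨t, ht⟩ := (NoetherianSpace.isCompact ((f₀ ⁻¹ᵁ PrimeSpectrum.basicOpen g₀ : X₀.Opens) : Set X₀)).elim_finite_subcover
    (fun x' => (c.locus (a x') : Set X₀)) (fun x' => (c.locus (a x')).2)
    fun z hz => Set.mem_iUnion.2 (Opens.mem_iSup.1 (hcov ⟨trivial, hz⟩))
  let G : A := g₀ * ∏ x' ∈ t, g x'
  have hGp : p ∈ PrimeSpectrum.basicOpen G := by
    rw [PrimeSpectrum.basicOpen_mul]
    refine ⟨hg₀, fun hmem => ?_⟩
    obtain ⟨x', hx', hgx⟩ := p.isPrime.prod_mem_iff.1 hmem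
    exact hg x' hgx
  let X₁ : X₀.Opens := f₀ ⁻¹ᵁ PrimeSpectrum.basicOpen G
  haveI : CompactSpace (X₁ : Scheme.{u}) := isCompact_iff_compactSpace.mp (NoetherianSpace.isCompact _)
  have hA₁ : CohB1.IsAmple ((Scheme.Modules.pullback X₁.ι).obj ((Scheme.Modules.pullback k).obj L)) := by
    obtain ⟨d⟩ := c.nonempty_pullback_iso X₁.ι e
    refine ((c.comap X₁.ι).isAmple_iff d).2 ⟨inferInstance, fun z => ?_⟩
    have hzG : X₁.ι z ∈ X₁ := z.2
    have hz0 : X₁.ι z ∈ f₀ ⁻¹ᵁ PrimeSpectrum.basicOpen g₀ := PrimeSpectrum.basicOpen_mul_le_left _ _ hzG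
    obtain ⟨x', hx't, hzx⟩ := Set.mem_iUnion₂.1 (ht hz0)
    have hgG : PrimeSpectrum.basicOpen G ≤ PrimeSpectrum.basicOpen (g x') := fun q hq hmem =>
      hq (Ideal.mul_mem_left _ _ (Ideal.mem_of_dvd _ (Finset.dvd_prod_of_mem g hx't) hmem))
    refine ⟨n x', c.pullSect X₁.ι (le_top : (⊤ : Scheme.Opens (X₁ : Scheme.{u})) ≤ X₁.ι ⁻¹ᵁ ⊤) (a x'), ?_, ?_⟩
    · rw [c.locus_pullSect]
      exact hzx
    · rw [c.locus_pullSect, ← Scheme.Hom.isAffineOpen_iff_of_isOpenImmersion X₁.ι,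
        Scheme.Hom.image_preimage_eq_opensRange_inf, Scheme.Opens.opensRange_ι]
      have h3 := isAffineOpen_inf_preimage f₀ (haff x') G
      rwa [inf_assoc, ← Scheme.Hom.preimage_inf, inf_eq_right.2 hgG, inf_comm] at h3
  refine ⟨hW.fromSpec ''ᵁ PrimeSpectrum.basicOpen G, ⟨p, hGp, hW.fromSpec_primeIdealOf ⟨y, hyW⟩⟩,
    (IsAffineOpen.Spec_basicOpen (R := CommRingCat.of A) G).image_of_isOpenImmersion _, fun U hUc hU => ?_⟩
  haveI : CompactSpace (U : Scheme.{u}) := isCompact_iff_compactSpace.mp hUc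
  rw [Ample.isAmple_restrict_iff]
  rw [Ample.isAmple_pullback_comp_iff] at hA₁
  refine Ample.isAmple_pullback_of_range_le U.ι (X₁.ι ≫ k) ?_ hA₁
  rw [U.range_ι]
  intro x hx
  obtain ⟨q, hq, hqx⟩ := hU hx
  obtain ⟨z, hzk, hzq⟩ := Scheme.Pullback.exists_preimage_pullback (f := f) (g := hW.fromSpec) x q hqx.symm
  refine ⟨⟨z, by show f₀ z ∈ PrimeSpectrum.basicOpen G; rw [show f₀ z = q from hzq]; exact hq⟩, ?_⟩
  rw [Scheme.Hom.comp_apply]
  exact hzk

end GrothLib.AmpSpread10
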