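import Groth.Agent.Lib.AmpSpread10.Spread
import Groth.Agent.Lib.RelVanish.Uniform

/-!
# Vanishing of the stalks of higher direct images of high twists
-/

set_option autoImplicit false
set_option linter.all false
set_option backward.isDefEq.respectTransparency false
set_option maxHeartbeats 1000000

universe u

open CategoryTheory CategoryTheory.Limits AlgebraicGeometry Opposite TopologicalSpace

noncomputable section

namespace GrothLib.AmpSpread10

/-- A quasi-coherent module without sections over an affine open has no stalks there. -/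
theorem isZero_stalk_of_subsingleton {S : Scheme.{u}} (H : S.Modules) [H.IsQuasicoherent] {W : S.Opens}
    (hW : IsAffineOpen W) [Subsingleton Γ(H, W)] {y : S} (hy : y ∈ W) : IsZero (H.presheaf.stalk y) := by
  haveI : Subsingleton (H.presheaf.stalk y : Type u) := by
    refine subsingleton_of_forall_eq 0 fun s => ?_
    obtain ⟨U, hyU, t, rfl⟩ := TopCat.Presheaf.germ_exist H.presheaf s
    obtain ⟨g, hgU, hyg⟩ := hW.exists_basicOpen_le (⟨y, hyU⟩ : U) hy
    obtain ⟨n, t', ht'⟩ := (QCoh.smulLift_and_smulSep_of_isAffineOpen hW H g).1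
      (H.presheaf.map (homOfLE hgU).op t)
    rw [Subsingleton.elim t' 0, map_zero] at ht'
    have hu : IsUnit ((S.presheaf.map (homOfLE (S.basicOpen_le g)).op g) ^ n) :=
      (RingedSpace.isUnit_res_basicOpen _ g).pow n
    have h0 := hu.smul_left_cancel.1 (ht'.symm.trans (smul_zero _).symm)
    rw [← TopCat.Presheaf.germ_res_apply H.presheaf (homOfLE hgU) y hyg t, h0, map_zero]
  exact AddCommGrpCat.isZero_of_subsingleton _

variable {X S : Scheme.{u}} (f : X ⟶ S) [IsProper f]

/-- **High twists have no higher cohomology near a fibre on which the module is ample.** -/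
theorem exists_isZero_stalk_RpushAb [IsNoetherian S] {L : X.Modules} (hL : PicF.IsInvertible L)
    {M : X.Modules} (hM : Coh.IsCoh M) (y : S)
    (hy : CohB1.IsAmple ((Scheme.Modules.pullback (f.fiberι y)).obj L)) :
    ∃ d₀ : ℕ, ∀ d : ℕ, d₀ ≤ d → ∀ p : ℕ, 0 < p →
      IsZero (TopCat.Presheaf.stalk
        ((Coh.RpushAb f p).obj (Coh.toAb (CohB1.tensorMod M (CohB1.tensorPow L d)))).obj y) := by
  haveI := LocallyOfFiniteType.isLocallyNoetherian f
  obtain ⟨W, hyW, hW, h⟩ := exists_isAmple_nhd f hL y hy
  have ha := h (f ⁻¹ᵁ W) (QuasiCompact.isCompact_preimage _ W.isOpen hW.isCompact) le_rfl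
  obtain ⟨n₀, hn₀⟩ := RelVanish.exists_forall_subsingleton_preimage f hL hW ha hM
  refine ⟨n₀, fun n hn p hp => ?_⟩
  let G := CohB1.tensorMod M (CohB1.tensorPow L n)
  haveI : G.IsQuasicoherent := (CMReg.isCoh_tensorMod hM (Ample.isInvertible_tensorPow hL n)).1
  obtain ⟨J⟩ := Cohom.nonempty_flRes' G
  obtain ⟨e⟩ := Cohom.nonempty_homology_iso_RpushAb f J p
  let H := (Cohom.pushCx f J.cocomplex).homology p
  haveI : H.IsQuasicoherent := Cocyc.isQuasicoherent_homology (Cohom.localises_pushCx f J p)
  haveI := hn₀ n hn p hp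
  haveI : Subsingleton Γ(H, W) :=
    (AddEquiv.ofBijective _ (Cohom.classToSection_bijective f J p hW)).symm.toEquiv.subsingleton
  exact (isZero_stalk_of_subsingleton H hW hyW).of_iso
    ((TopCat.Presheaf.stalkFunctor AddCommGrpCat.{u} y).mapIso
      ((sheafToPresheaf _ _).mapIso e.symm))

end GrothLib.AmpSpread10
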